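import Groth.Agent.BrnchLib.NormBij
import Groth.Agent.BrnchLib.HenzStrict
import Groth.Agent.Hensel.Henselization

/-! Branches of a quotient through the minimal primes over the kernel. -/

noncomputable section

namespace Groth.Agent.BrnchLib

universe u

open IsLocalRing Groth.Agent.Hensel

set_option linter.style.haveILetI false

theorem encard_minimalPrimes_quotient {R : Type u} [CommRing R] (J : Ideal R) :
    (minimalPrimes (R ⧸ J)).encard = J.minimalPrimes.encard := by
  rw [Ideal.minimalPrimes_eq_comap]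
  exact ((Ideal.comap_injective_of_surjective _ Ideal.Quotient.mk_surjective).injOn.encard_image).symm

theorem encard_minimalPrimes_map_equiv {R R' : Type u} [CommRing R] [CommRing R'] (e : R ≃+* R') (J : Ideal R) :
    (J.map (e : R →+* R')).minimalPrimes.encard = J.minimalPrimes.encard := by
  have h : ((J.map (e : R →+* R')).comap (e : R →+* R')).minimalPrimes =
      Ideal.comap (e : R →+* R') '' (J.map (e : R →+* R')).minimalPrimes :=
    Ideal.comap_minimalPrimes_eq_of_surjective e.surjective _
  have hc : (J.map (e : R →+* R')).comap (e : R →+* R') = J := by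
    exact Ideal.comap_map_of_bijective (e : R →+* R') e.bijective
  rw [hc] at h
  rw [h]
  exact ((Ideal.comap_injective_of_surjective _ e.surjective).injOn.encard_image).symm

theorem encard_minimalPrimes_le_map {B R : Type u} [CommRing B] [CommRing R] [Algebra B R]
    [Module.FaithfullyFlat B R] (L : Ideal B) :
    L.minimalPrimes.encard ≤ (L.map (algebraMap B R)).minimalPrimes.encard := by
  suffices h : L.minimalPrimes ⊆ Ideal.comap (algebraMap B R) '' (L.map (algebraMap B R)).minimalPrimes from
    (Set.encard_le_encard h).trans (Set.encard_image_le _ _)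
  intro P hP
  obtain ⟨Q, hQ⟩ := PrimeSpectrum.comap_surjective_of_faithfullyFlat (B := R) (⟨P, hP.1.1⟩ : PrimeSpectrum B)
  have hQP : Q.asIdeal.comap (algebraMap B R) = P := congr(($hQ).asIdeal)
  obtain ⟨Q₀, hQ₀, hle⟩ := Ideal.exists_minimalPrimes_le (I := L.map (algebraMap B R)) (J := Q.asIdeal)
    (Ideal.map_le_iff_le_comap.2 (hP.1.2.trans hQP.ge))
  haveI := hQ₀.1.1
  have hc : Q₀.comap (algebraMap B R) ≤ P := (Ideal.comap_mono hle).trans hQP.le
  exact ⟨Q₀, hQ₀, le_antisymm hc (hP.2 ⟨Ideal.IsPrime.comap _, Ideal.map_le_iff_le_comap.1 hQ₀.1.2⟩ hc)⟩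

variable {A A' : Type u} [CommRing A] [IsLocalRing A] [CommRing A'] [IsLocalRing A'] (π : A →+* A')
  (hπ : Function.Surjective π) (R : Type u) [CommRing R] [IsLocalRing R] [Algebra A R] [IsLocalHom (algebraMap A R)]

include hπ

theorem card_minimalPrimes_over_ker [hR : _root_.Hensel.IsHenselization A R] :
    ((RingHom.ker π).map (algebraMap A R)).minimalPrimes.encard = Brnch.numBranches A' := by
  set J := (RingHom.ker π).map (algebraMap A R)
  haveI : IsLocalHom π := IsLocalHom.of_surjective π hπ
  have hJ : J ≤ maximalIdeal R := by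
    refine Ideal.map_le_iff_le_comap.2 fun a ha hu => ?_
    exact not_isUnit_zero ((RingHom.mem_ker.1 ha) ▸ (isUnit_of_map_unit (algebraMap A R) a hu).map π)
  haveI : Nontrivial (R ⧸ J) :=
    Ideal.Quotient.nontrivial_iff.2 fun h => (maximalIdeal.isMaximal R).ne_top (top_le_iff.1 (h ▸ hJ))
  haveI : IsLocalRing (R ⧸ J) := IsLocalRing.of_surjective' (Ideal.Quotient.mk J) Ideal.Quotient.mk_surjective
  haveI : IsLocalHom (Ideal.Quotient.mk J) := IsLocalHom.of_surjective _ Ideal.Quotient.mk_surjective
  let f := (Ideal.Quotient.mk J).comp (algebraMap A R)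
  have hf : RingHom.ker π ≤ RingHom.ker f := fun a ha =>
    Ideal.Quotient.eq_zero_iff_mem.2 (Ideal.mem_map_of_mem _ ha)
  letI : Algebra A' (R ⧸ J) := (RingHom.liftOfSurjective π hπ ⟨f, hf⟩).toAlgebra
  have hcomm : ∀ a, algebraMap A' (R ⧸ J) (π a) = f a := fun a =>
    RingHom.liftOfRightInverse_comp_apply π _ _ ⟨f, hf⟩ a
  haveI : IsLocalHom (algebraMap A' (R ⧸ J)) := ⟨fun b hb => by
    obtain ⟨a, rfl⟩ := hπ b
    rw [hcomm] at hb
    exact (isUnit_of_map_unit f a hb).map π⟩
  haveI : HenselianLocalRing R := hR.henselian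
  haveI : HenselianLocalRing (R ⧸ J) := Hensel.henselianLocalRing_of_finite R (R ⧸ J)
  haveI : _root_.Hensel.IsHenselization A' (R ⧸ J) :=
    { henselian := inferInstance
      universal := fun T _ _ φ hφ => by
        obtain ⟨g, hg, huniq⟩ := hR.universal T (φ.comp π) (RingHom.isLocalHom_comp φ π)
        have hgJ : ∀ x ∈ J, g x = 0 := fun x hx => by
          refine (show J ≤ RingHom.ker g from Ideal.map_le_iff_le_comap.2 fun a ha => ?_) hx
          rw [Ideal.mem_comap, RingHom.mem_ker, ← RingHom.comp_apply, hg, RingHom.comp_apply, RingHom.mem_ker.1 ha,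
            map_zero]
        refine ⟨Ideal.Quotient.lift J g hgJ, RingHom.ext fun b => ?_, fun g' hg' => Ideal.Quotient.ringHom_ext ?_⟩
        · obtain ⟨a, rfl⟩ := hπ b
          rw [RingHom.comp_apply, hcomm]
          exact RingHom.congr_fun hg a
        · rw [Ideal.Quotient.lift_comp_mk]
          exact huniq _ (RingHom.ext fun a => by
            change g' (f a) = φ (π a)
            rw [← hcomm, ← RingHom.comp_apply, hg']) }
  rw [← card_minimalPrimes_henselization (A := A') (R ⧸ J), ENat.card_coe_set_eq, encard_minimalPrimes_quotient]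

theorem card_minimalPrimes_over_ker_strict [hR : _root_.Hensel.IsStrictHenselization A R] :
    ((RingHom.ker π).map (algebraMap A R)).minimalPrimes.encard = Brnch.numGeomBranches A' := by
  set J := (RingHom.ker π).map (algebraMap A R)
  haveI : IsLocalHom π := IsLocalHom.of_surjective π hπ
  have hJ : J ≤ maximalIdeal R := by
    refine Ideal.map_le_iff_le_comap.2 fun a ha hu => ?_
    exact not_isUnit_zero ((RingHom.mem_ker.1 ha) ▸ (isUnit_of_map_unit (algebraMap A R) a hu).map π)
  haveI : Nontrivial (R ⧸ J) :=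
    Ideal.Quotient.nontrivial_iff.2 fun h => (maximalIdeal.isMaximal R).ne_top (top_le_iff.1 (h ▸ hJ))
  haveI : IsLocalRing (R ⧸ J) := IsLocalRing.of_surjective' (Ideal.Quotient.mk J) Ideal.Quotient.mk_surjective
  haveI : IsLocalHom (Ideal.Quotient.mk J) := IsLocalHom.of_surjective _ Ideal.Quotient.mk_surjective
  let f := (Ideal.Quotient.mk J).comp (algebraMap A R)
  have hf : RingHom.ker π ≤ RingHom.ker f := fun a ha =>
    Ideal.Quotient.eq_zero_iff_mem.2 (Ideal.mem_map_of_mem _ ha)
  letI : Algebra A' (R ⧸ J) := (RingHom.liftOfSurjective π hπ ⟨f, hf⟩).toAlgebra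
  have hcomm : ∀ a, algebraMap A' (R ⧸ J) (π a) = f a := fun a =>
    RingHom.liftOfRightInverse_comp_apply π _ _ ⟨f, hf⟩ a
  haveI : IsLocalHom (algebraMap A' (R ⧸ J)) := ⟨fun b hb => by
    obtain ⟨a, rfl⟩ := hπ b
    rw [hcomm] at hb
    exact (isUnit_of_map_unit f a hb).map π⟩
  haveI : HenselianLocalRing R := hR.henselian
  haveI : HenselianLocalRing (R ⧸ J) := Hensel.henselianLocalRing_of_finite R (R ⧸ J)
  haveI : IsSepClosed (ResidueField R) := hR.isSepClosure.sep_closed
  haveI : Algebra.IsSeparable (ResidueField A) (ResidueField R) := hR.isSepClosure.separable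
  let eA : ResidueField A ≃+* ResidueField A' := RingEquiv.ofBijective (ResidueField.map π)
    ⟨RingHom.injective _, fun z => by
      obtain ⟨b, rfl⟩ := residue_surjective z
      obtain ⟨a, rfl⟩ := hπ b
      exact ⟨residue A a, rfl⟩⟩
  let eR : ResidueField R ≃+* ResidueField (R ⧸ J) := RingEquiv.ofBijective (ResidueField.map (Ideal.Quotient.mk J))
    ⟨RingHom.injective _, fun z => by
      obtain ⟨b, rfl⟩ := residue_surjective z
      obtain ⟨a, rfl⟩ := Ideal.Quotient.mk_surjective b
      exact ⟨residue R a, rfl⟩⟩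
  have hres : ∀ x, ResidueField.map (algebraMap A' (R ⧸ J)) (eA x) = eR (ResidueField.map (algebraMap A R) x) :=
    fun x => by
      obtain ⟨a, rfl⟩ := residue_surjective x
      exact congrArg (residue (R ⧸ J)) (hcomm a)
  haveI : _root_.Hensel.IsStrictHenselization A' (R ⧸ J) :=
    { henselian := inferInstance
      isSepClosure := ⟨isSepClosed_of_ringEquiv eR,
        Algebra.IsSeparable.of_equiv_equiv eA eR (RingHom.ext fun x => hres x)⟩
      universal := fun T _ _ φ _ τ hτ => by
        haveI : IsLocalHom (φ.comp π) := RingHom.isLocalHom_comp φ π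
        obtain ⟨g, ⟨hg, hgτ⟩, huniq⟩ := hR.universal T (φ.comp π) (τ.comp (eR : ResidueField R →+* _))
          (RingHom.ext fun x => by
            change τ (eR (ResidueField.map (algebraMap A R) x)) = _
            rw [← hres, ← RingHom.comp_apply, hτ]
            obtain ⟨a, rfl⟩ := residue_surjective x
            rfl)
        have hgJ : ∀ x ∈ J, g x = 0 := fun x hx => by
          refine (show J ≤ RingHom.ker g from Ideal.map_le_iff_le_comap.2 fun a ha => ?_) hx
          rw [Ideal.mem_comap, RingHom.mem_ker, ← RingHom.comp_apply, hg, RingHom.comp_apply, RingHom.mem_ker.1 ha,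
            map_zero]
        refine ⟨Ideal.Quotient.lift J g hgJ, ⟨RingHom.ext fun b => ?_, fun x => ?_⟩,
          fun g' ⟨hg', hg'τ⟩ => Ideal.Quotient.ringHom_ext ?_⟩
        · obtain ⟨a, rfl⟩ := hπ b
          rw [RingHom.comp_apply, hcomm]
          exact RingHom.congr_fun hg a
        · obtain ⟨x, rfl⟩ := Ideal.Quotient.mk_surjective x
          exact hgτ x
        · rw [Ideal.Quotient.lift_comp_mk]
          refine huniq _ ⟨RingHom.ext fun a => ?_, fun x => hg'τ (Ideal.Quotient.mk J x)⟩
          change g' (f a) = φ (π a)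
          rw [← hcomm, ← RingHom.comp_apply, hg'] }
  rw [← card_minimalPrimes_strictHenselization A' (R ⧸ J), ENat.card_coe_set_eq, encard_minimalPrimes_quotient]

end Groth.Agent.BrnchLib
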