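import Groth.Agent.BrnchLib.HenzStrict
import Groth.Agent.BrnchLib.Compl
import Groth.Agent.FormalFib6.Cplt
import Groth.Agent.S0537
import Groth.Agent.S2646
import Groth.Agent.S2670
import Groth.Agent.S4754
import Groth.Agent.Hensel.TensorHenzFinite

/-!
# Branches and completion when the formal fibres are geometrically normal

The completed normalisation `Â ⊗ A'` is normal, birational componentwise over `Â`, and has the closed fibre of `A'`.
-/

noncomputable section

namespace Groth.Agent.BrnchLib

universe u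

open IsLocalRing TensorProduct

set_option linter.style.haveILetI false
set_option maxHeartbeats 800000

/-- Points of an integral algebra in a field over the maximal ideal, sorted by their kernels. -/
def pointsEquiv {R B K : Type u} [CommRing R] [CommRing B] [Algebra R B] [Algebra.IsIntegral R B] [Field K]
    (jR : R →+* K) (hj : (RingHom.ker jR).IsMaximal) :
    (Σ m : MaximalSpectrum B,
      {σ : B ⧸ m.asIdeal →+* K // σ.comp ((Ideal.Quotient.mk m.asIdeal).comp (algebraMap R B)) = jR}) ≃
    {φ : B →+* K // φ.comp (algebraMap R B) = jR} :=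
  Equiv.ofBijective (fun p => ⟨p.2.1.comp (Ideal.Quotient.mk _), p.2.2⟩) ⟨by
    rintro ⟨m, σ, hσ⟩ ⟨m', σ', hσ'⟩ h
    have h' : σ.comp (Ideal.Quotient.mk _) = σ'.comp (Ideal.Quotient.mk _) := congrArg Subtype.val h
    have hk : ∀ (n : MaximalSpectrum B) (τ : B ⧸ n.asIdeal →+* K),
        RingHom.ker (τ.comp (Ideal.Quotient.mk _)) = n.asIdeal := fun n τ => by
      letI := Ideal.Quotient.field n.asIdeal
      ext b
      rw [RingHom.mem_ker, RingHom.comp_apply, map_eq_zero, Ideal.Quotient.eq_zero_iff_mem]
    obtain rfl : m = m' := MaximalSpectrum.ext ((hk m σ).symm.trans ((congrArg RingHom.ker h').trans (hk m' σ')))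
    obtain rfl : σ = σ' := Ideal.Quotient.ringHom_ext h'
    rfl, fun φ => by
    haveI : (RingHom.ker φ.1).IsPrime := RingHom.ker_isPrime _
    have hc : (RingHom.ker φ.1).comap (algebraMap R B) = RingHom.ker jR := by rw [RingHom.comap_ker, φ.2]
    exact ⟨⟨⟨RingHom.ker φ.1, Ideal.isMaximal_of_isIntegral_of_isMaximal_comap _ (hc ▸ hj)⟩,
      RingHom.kerLift φ.1, RingHom.ext fun r => RingHom.congr_fun φ.2 r⟩, Subtype.ext (RingHom.ext fun _ => rfl)⟩⟩

theorem minimalPrimes_finite' (A : Type u) [CommRing A] [IsNoetherianRing A] : (minimalPrimes A).Finite :=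
  minimalPrimes.finite_of_isNoetherianRing A

/-- Normality may be tested at the maximal ideals. -/
theorem isNormalRing_of_maximal {R : Type u} [CommRing R]
    (h : ∀ m : Ideal R, ∀ [m.IsMaximal], IsDomain (Localization.AtPrime m) ∧ IsIntegrallyClosed (Localization.AtPrime m)) :
    EGA4.IsNormalRing R := fun p _ => by
  obtain ⟨m, hm, hle⟩ := Ideal.exists_le_maximal p (Ideal.IsPrime.ne_top ‹_›)
  haveI := hm
  obtain ⟨h1, h2⟩ := h m
  haveI := h1
  haveI := h2
  have hdis : Disjoint (m.primeCompl : Set R) (p : Set R) := Set.disjoint_left.2 fun c hc hcp => hc (hle hcp)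
  set P := p.map (algebraMap R (Localization.AtPrime m))
  haveI : P.IsPrime := IsLocalization.isPrime_of_isPrime_disjoint m.primeCompl _ p ‹_› hdis
  haveI := IsLocalization.isLocalization_isLocalization_atPrime_isLocalization m.primeCompl (Localization.AtPrime P) P
  have hP : P.comap (algebraMap R (Localization.AtPrime m)) = p :=
    IsLocalization.comap_map_of_isPrime_disjoint m.primeCompl _ ‹_› hdis
  haveI : IsLocalization p.primeCompl (Localization.AtPrime P) := by
    convert (inferInstance : IsLocalization.AtPrime (Localization.AtPrime P) (P.comap (algebraMap R (Localization.AtPrime m))))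
    exact hP.symm
  let e : Localization.AtPrime P ≃ₐ[R] Localization.AtPrime p := IsLocalization.algEquiv p.primeCompl _ _
  haveI : IsDomain (Localization.AtPrime P) :=
    IsLocalization.isDomain_localization P.primeCompl_le_nonZeroDivisors
  haveI : IsIntegrallyClosed (Localization.AtPrime P) :=
    isIntegrallyClosed_of_isLocalization _ P.primeCompl P.primeCompl_le_nonZeroDivisors
  exact ⟨e.symm.toRingEquiv.toMulEquiv.isDomain _, IsIntegrallyClosed.of_equiv (R := Localization.AtPrime P) e.toRingEquiv⟩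

theorem comap_mem_minimalPrimes_flat (R : Type u) {M : Type u} [CommRing R] [CommRing M] [Algebra R M]
    [Module.Flat R M] {P : Ideal M} (hP : P ∈ minimalPrimes M) : P.comap (algebraMap R M) ∈ minimalPrimes R := by
  haveI := hP.1.1
  refine ⟨⟨Ideal.IsPrime.comap _, bot_le⟩, fun q ⟨hq, _⟩ hle => ?_⟩
  haveI := hq
  haveI : P.LiesOver (P.comap (algebraMap R M)) := ⟨rfl⟩
  obtain ⟨P', hP'le, hP', ho⟩ := Ideal.exists_ideal_le_liesOver_of_le (p := q) (q := P.comap (algebraMap R M)) P hle
  rw [ho.over]
  exact Ideal.comap_mono (hP.2 ⟨hP', bot_le⟩ hP'le)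

variable (A : Type u) [CommRing A] [IsLocalRing A] [IsNoetherianRing A] (hA : EGA4.HasGeomNormalFormalFibres A)

include hA in
theorem finite_normRed : Module.Finite A (CAlg2.normRed A) := by
  haveI : Nontrivial (CAlg2.red A) := Ideal.Quotient.nontrivial_iff.2 fun h =>
    (maximalIdeal.isMaximal A).ne_top (top_le_iff.1 (h ▸ nilradical_le_prime _))
  haveI : IsLocalRing (CAlg2.red A) := .of_surjective' _ Ideal.Quotient.mk_surjective
  haveI : IsReduced (CAlg2.red A) := (Ideal.isRadical_iff_quotient_reduced _).1 (Ideal.radical_isRadical _)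
  haveI := (Groth.Agent.S2646.result (CAlg2.red A) (Groth.Agent.S4754.result A hA (nilradical A))).2
  exact Module.Finite.trans (CAlg2.red A) (CAlg2.normRed A)

theorem isNormalRing_normRed : EGA4.IsNormalRing (CAlg2.normRed A) := by
  haveI : Finite (minimalPrimes A) := (minimalPrimes_finite' A).to_subtype
  exact isNormalRing_of_maximal fun m _ => isDomain_normal_localization (comps A) m

omit [IsLocalRing A] in
/-- One element of `A` outside all minimal primes clears all denominators. -/
theorem exists_conductor [Module.Finite A (CAlg2.normRed A)] :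
    ∃ a : A, (∀ p ∈ minimalPrimes A, a ∉ p) ∧
      ∀ b : CAlg2.normRed A, ∃ a₀ : A, algebraMap A (CAlg2.normRed A) a * b = algebraMap A _ a₀ := by
  have h1 : ∀ b : CAlg2.normRed A, ∃ a : A, (∀ p ∈ minimalPrimes A, a ∉ p) ∧
      ∃ a₀ : A, algebraMap A (CAlg2.normRed A) a * b = algebraMap A _ a₀ := fun b => by
    obtain ⟨⟨x, d⟩, hxd⟩ := IsLocalization.surj (nonZeroDivisors (CAlg2.red A)) (b : FractionRing (CAlg2.red A))
    obtain ⟨x, rfl⟩ := Ideal.Quotient.mk_surjective x
    obtain ⟨a, ha⟩ := Ideal.Quotient.mk_surjective (d : CAlg2.red A)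
    refine ⟨a, fun p hp hap => ?_, x, Subtype.ext ?_⟩
    · haveI := hp.1.1
      obtain ⟨c, hc, hcp⟩ : ∃ c, c * a ∈ nilradical A ∧ c ∉ p := by
        have hfin := minimalPrimes_finite' A
        classical
        have hnle : ¬ ((hfin.toFinset.erase p).inf id) ≤ p := fun h => by
          obtain ⟨Q, hQ, hle⟩ := (hp.1.1.inf_le').1 h
          rw [Finset.mem_erase, Set.Finite.mem_toFinset] at hQ
          exact hQ.1 (le_antisymm hle (hp.2 ⟨hQ.2.1.1, bot_le⟩ hle))
        obtain ⟨c, hc, hcp⟩ := SetLike.not_le_iff_exists.1 hnle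
        refine ⟨c, ?_, hcp⟩
        rw [nilradical, Ideal.zero_eq_bot, ← Ideal.sInf_minimalPrimes]
        refine Submodule.mem_sInf.2 fun Q hQ => ?_
        by_cases hQp : Q = p
        · exact hQp ▸ Ideal.mul_mem_left _ c hap
        · exact Ideal.mul_mem_right _ _ (Finset.inf_le (f := id) (Finset.mem_erase.2 ⟨hQp, hfin.mem_toFinset.2 hQ⟩) hc)
      have h0 : Ideal.Quotient.mk (nilradical A) c * (d : CAlg2.red A) = 0 := by
        rw [← ha, ← map_mul]
        exact Ideal.Quotient.eq_zero_iff_mem.2 hc
      exact hcp (nilradical_le_prime p (Ideal.Quotient.eq_zero_iff_mem.1 ((mem_nonZeroDivisors_iff.1 d.2).2 _ h0)))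
    · change algebraMap (CAlg2.red A) (FractionRing (CAlg2.red A)) (Ideal.Quotient.mk _ a) * _ =
        algebraMap (CAlg2.red A) (FractionRing (CAlg2.red A)) (Ideal.Quotient.mk _ x)
      rw [ha, mul_comm]
      exact hxd
  obtain ⟨r, g, hg⟩ := Module.Finite.exists_fin (R := A) (M := CAlg2.normRed A)
  choose a ha a₀ ha₀ using fun i => h1 (g i)
  refine ⟨∏ i, a i, fun p hp h => ?_, fun b => ?_⟩
  · haveI := hp.1.1
    obtain ⟨i, -, hi⟩ := Ideal.IsPrime.prod_mem_iff.1 h
    exact ha i p hp hi
  · have hb : b ∈ Submodule.span A (Set.range g) := hg ▸ Submodule.mem_top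
    obtain ⟨c, rfl⟩ := (Submodule.mem_span_range_iff_exists_fun A).1 hb
    classical
    refine ⟨∑ i, c i * ((∏ j ∈ Finset.univ.erase i, a j) * a₀ i), ?_⟩
    rw [Finset.mul_sum, map_sum]
    refine Finset.sum_congr rfl fun i _ => ?_
    rw [map_mul _ (c i), map_mul _ (∏ j ∈ Finset.univ.erase i, a j), ← ha₀ i,
      ← Finset.mul_prod_erase _ _ (Finset.mem_univ i), map_mul, Algebra.smul_def]
    ring

local notation "T" => AdicCompletion (maximalIdeal A) A
local notation "R'" => CAlg2.normRed A

include hA in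
/-- The completed normalization satisfies the hypotheses of the counting theorems. -/
theorem completed_normalization :
    (∀ m : Ideal (T ⊗[A] R'), ∀ [m.IsMaximal],
      IsDomain (Localization.AtPrime m) ∧ IsIntegrallyClosed (Localization.AtPrime m)) ∧
    Set.BijOn (Ideal.comap (algebraMap T (T ⊗[A] R'))) (minimalPrimes (T ⊗[A] R')) (minimalPrimes T) ∧
    (∀ P ∈ minimalPrimes (T ⊗[A] R'), ∀ b : T ⊗[A] R', ∃ a a₀ : T, algebraMap T (T ⊗[A] R') a ∉ P ∧
      algebraMap T (T ⊗[A] R') a * b - algebraMap T _ a₀ ∈ P) := by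
  haveI := finite_normRed A hA
  haveI : IsNoetherianRing T := Groth.Agent.FormalFib6.isNoetherianRing_adicCompletion A _
  haveI : Module.FaithfullyFlat A T := Module.FaithfullyFlat.of_flat_of_isLocalHom
  haveI : Finite (minimalPrimes A) := (minimalPrimes_finite' A).to_subtype
  have hN : EGA4.IsNormalRing (T ⊗[A] R') :=
    Groth.Agent.S2670.result A T ⟨inferInstance, hA⟩ R' (isNormalRing_normRed A)
  refine ⟨fun m _ => hN m, ?_⟩
  obtain ⟨a, ha, hab⟩ := exists_conductor A
  let iL : T →+* T ⊗[A] R' := algebraMap T (T ⊗[A] R')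
  let iR : R' →+* T ⊗[A] R' := (Algebra.TensorProduct.includeRight : R' →ₐ[A] T ⊗[A] R').toRingHom
  have hcomm : ∀ x : A, iR (algebraMap A R' x) = iL (algebraMap A T x) := fun x => by
    simp only [iR, iL, AlgHom.toRingHom_eq_coe, RingHom.coe_coe, AlgHom.commutes, ← IsScalarTower.algebraMap_apply]
  set α := algebraMap A T a
  have hcond : ∀ x : T ⊗[A] R', ∃ t : T, iL α * x = iL t := fun x => by
    induction x using TensorProduct.induction_on with
    | zero => exact ⟨0, by simp⟩
    | tmul s b =>
      obtain ⟨a₀, ha₀⟩ := hab b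
      refine ⟨s * algebraMap A T a₀, ?_⟩
      rw [show s ⊗ₜ[A] b = iL s * iR b by simp [iL, iR], ← hcomm, map_mul iL, ← hcomm, ← ha₀, map_mul iR]
      ring
    | add x y hx hy =>
      obtain ⟨t, ht⟩ := hx
      obtain ⟨t', ht'⟩ := hy
      exact ⟨t + t', by rw [mul_add, ht, ht', map_add]⟩
  -- `α` avoids the minimal primes
  have hαT : ∀ q ∈ minimalPrimes T, α ∉ q := fun q hq h => by
    haveI := hq.1.1
    exact ha _ (comap_mem_minimalPrimes_flat A hq) h
  letI : Algebra R' (T ⊗[A] R') := iR.toAlgebra
  haveI : Module.Flat R' (T ⊗[A] R') :=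
    Module.Flat.of_linearEquiv (M := R' ⊗[A] T)
      { (Algebra.TensorProduct.comm A T R').toAddEquiv with
        map_smul' := fun b x => by
          change Algebra.TensorProduct.comm A T R' (iR b * x) = _
          rw [map_mul]
          simp only [iR, AlgHom.toRingHom_eq_coe, RingHom.coe_coe, Algebra.TensorProduct.includeRight_apply,
            Algebra.TensorProduct.comm_tmul, RingHom.id_apply]
          change _ = b • (Algebra.TensorProduct.comm A T R') x
          rw [Algebra.smul_def]
          rfl }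
  have hαP : ∀ P ∈ minimalPrimes (T ⊗[A] R'), iL α ∉ P := fun P hP h => by
    haveI := hP.1.1
    have h1 : P.comap iR ∈ minimalPrimes R' := comap_mem_minimalPrimes_flat R' hP
    refine ha _ ((bijOn_normRed A).mapsTo h1) ?_
    show iR (algebraMap A R' a) ∈ P
    rwa [hcomm]
  have hker : RingHom.ker iL ≤ nilradical T := fun t ht => by
    rw [nilradical, Ideal.zero_eq_bot, ← Ideal.sInf_minimalPrimes]
    refine Submodule.mem_sInf.2 fun q hq => ?_
    haveI := hq.1.1
    set Kn := RingHom.ker (algebraMap A R')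
    have hKn : Kn ≤ nilradical A := fun x hx => by
      rw [RingHom.mem_ker, IsScalarTower.algebraMap_apply A (CAlg2.red A) R'] at hx
      exact Ideal.Quotient.eq_zero_iff_mem.1
        (IsFractionRing.injective (CAlg2.red A) (FractionRing (CAlg2.red A)) ((congrArg Subtype.val hx).trans (map_zero _).symm))
    have hex : Function.Exact Kn.subtype (Algebra.linearMap A R') := fun x =>
      ⟨fun hx => ⟨⟨x, hx⟩, rfl⟩, by rintro ⟨y, rfl⟩; exact y.2⟩
    obtain ⟨w, hw⟩ := (Module.Flat.lTensor_exact T hex (t ⊗ₜ (1 : A))).1 (by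
      rw [LinearMap.lTensor_tmul, Algebra.linearMap_apply, map_one]
      exact ht)
    have hmem : ∀ w, TensorProduct.rid A T (Kn.subtype.lTensor T w) ∈ q := fun w => by
      induction w with
      | zero => simp
      | tmul s x =>
        rw [LinearMap.lTensor_tmul, TensorProduct.rid_tmul, Algebra.smul_def]
        exact Ideal.mul_mem_right _ _ (nilradical_le_prime (Ideal.comap (algebraMap A T) q) (hKn x.2))
      | add x y hx hy => rw [map_add, map_add]; exact add_mem hx hy
    have h2 := hmem w
    rwa [hw, TensorProduct.rid_tmul, one_smul] at h2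
  have hlift : ∀ q : Ideal T, q.IsPrime → ∃ Q : Ideal (T ⊗[A] R'), Q.IsPrime ∧ Q.comap iL = q := fun q hq => by
    obtain ⟨Q, -, hQ, he⟩ := Ideal.exists_ideal_over_prime_of_isIntegral q (⊥ : Ideal (T ⊗[A] R'))
      (le_trans hker (nilradical_le_prime q))
    exact ⟨Q, hQ, he⟩
  have hcancel : ∀ Q Q' : Ideal (T ⊗[A] R'), Q'.IsPrime → iL α ∉ Q' → Q.comap iL ≤ Q'.comap iL → Q ≤ Q' :=
    fun Q Q' hQ' hα hle x hx => by
    obtain ⟨t, ht⟩ := hcond x
    have h1 : t ∈ Q.comap iL := by rw [Ideal.mem_comap, ← ht]; exact Ideal.mul_mem_left _ _ hx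
    have h2 : iL α * x ∈ Q' := by rw [ht]; exact hle h1
    exact (hQ'.mem_or_mem h2).resolve_left hα
  refine ⟨⟨fun Q hQ => ?_, fun Q hQ Q' hQ' h => ?_, fun q hq => ?_⟩, fun P hP b => ?_⟩
  · haveI := hQ.1.1
    refine ⟨⟨Ideal.IsPrime.comap _, bot_le⟩, fun q' ⟨hq', _⟩ hle => ?_⟩
    obtain ⟨Q', hQ', he⟩ := hlift q' hq'
    haveI := hQ'
    have hQ'le : Q' ≤ Q := hcancel Q' Q hQ.1.1 (hαP Q hQ) (he.le.trans hle)
    exact (Ideal.comap_mono (hQ.2 ⟨hQ', bot_le⟩ hQ'le)).trans he.le
  · exact le_antisymm (hcancel Q Q' hQ'.1.1 (hαP Q' hQ') (le_of_eq h)) (hcancel Q' Q hQ.1.1 (hαP Q hQ) (le_of_eq h.symm))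
  · obtain ⟨Q, hQ, he⟩ := hlift q hq.1.1
    obtain ⟨Q₀, hQ₀, hle⟩ := Ideal.exists_minimalPrimes_le (I := (⊥ : Ideal (T ⊗[A] R'))) (J := Q) bot_le
    haveI := hQ₀.1.1
    have hc : Q₀.comap iL ≤ q := (Ideal.comap_mono hle).trans he.le
    exact ⟨Q₀, hQ₀, le_antisymm hc (hq.2 ⟨Ideal.IsPrime.comap _, bot_le⟩ hc)⟩
  · obtain ⟨t, ht⟩ := hcond b
    exact ⟨α, t, hαP P hP, by rw [ht, sub_self]; exact zero_mem _⟩

include hA

theorem card_maximalSpectrum_completed :
    ENat.card (MaximalSpectrum (T ⊗[A] R')) = ENat.card (MaximalSpectrum R') := by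
  haveI := finite_normRed A hA
  haveI : IsNoetherianRing T := Groth.Agent.FormalFib6.isNoetherianRing_adicCompletion A _
  haveI : Module.FaithfullyFlat A T := Module.FaithfullyFlat.of_flat_of_isLocalHom
  let iL : T →+* T ⊗[A] R' := algebraMap T (T ⊗[A] R')
  let iR : R' →+* T ⊗[A] R' := (Algebra.TensorProduct.includeRight : R' →ₐ[A] T ⊗[A] R').toRingHom
  have hcomm : iR.comp (algebraMap A R') = iL.comp (algebraMap A T) := RingHom.ext fun x => by
    simp only [iR, iL, AlgHom.toRingHom_eq_coe, RingHom.comp_apply, RingHom.coe_coe, AlgHom.commutes, ← IsScalarTower.algebraMap_apply]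
  have hmax : ∀ n : Ideal (T ⊗[A] R'), n.IsMaximal → n.comap iL = maximalIdeal T ∧ (n.comap iR).IsMaximal := fun n hn => by
    have h1 : n.comap iL = maximalIdeal T := IsLocalRing.eq_maximalIdeal (Ideal.isMaximal_comap_of_isIntegral_of_isMaximal n)
    refine ⟨h1, Ideal.isMaximal_of_isIntegral_of_isMaximal_comap (R := A) _ ?_⟩
    rw [Ideal.comap_comap, hcomm, ← Ideal.comap_comap, h1, IsLocalRing.maximalIdeal_comap]
    infer_instance
  have hclosed : ∀ x : T ⊗[A] R', ∃ b : R', x - iR b ∈ (maximalIdeal T).map iL := fun x => by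
    induction x using TensorProduct.induction_on with
    | zero => exact ⟨0, by simp⟩
    | tmul s b =>
      obtain ⟨z, hz⟩ := Submodule.Quotient.mk_surjective _ (s.val 1)
      have hz' : s - algebraMap A T z ∈ maximalIdeal T := by
        rw [AdicCompletion.mem_maximalIdeal_iff_eval_one_eq_zero, AdicCompletion.val_sub_apply, sub_eq_zero, ← hz]
        rfl
      refine ⟨algebraMap A R' z * b, ?_⟩
      have hh : s ⊗ₜ[A] b - iR (algebraMap A R' z * b) = iL (s - algebraMap A T z) * iR b := by
        rw [show s ⊗ₜ[A] b = iL s * iR b by simp [iL, iR], map_mul iR, ← RingHom.comp_apply, hcomm,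
          RingHom.comp_apply, map_sub, sub_mul]
      rw [hh]
      exact Ideal.mul_mem_right _ _ (Ideal.mem_map_of_mem _ hz')
    | add x y hx hy =>
      obtain ⟨b, hb⟩ := hx
      obtain ⟨b', hb'⟩ := hy
      exact ⟨b + b', by rw [map_add]; convert add_mem hb hb' using 1; ring⟩
  let F : MaximalSpectrum (T ⊗[A] R') → MaximalSpectrum R' := fun n => ⟨n.asIdeal.comap iR, (hmax _ n.isMaximal).2⟩
  refine ENat.card_congr (Equiv.ofBijective F ⟨fun n n' h => ?_, fun m => ?_⟩)
  · refine MaximalSpectrum.ext (n.isMaximal.eq_of_le n'.isMaximal.ne_top fun x hx => ?_)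
    obtain ⟨b, hb⟩ := hclosed x
    have hmn : ∀ k : MaximalSpectrum (T ⊗[A] R'), x - iR b ∈ k.asIdeal := fun k =>
      (Ideal.map_le_iff_le_comap.2 (hmax _ k.isMaximal).1.ge) hb
    have h1 : b ∈ n.asIdeal.comap iR := by
      show iR b ∈ n.asIdeal
      simpa using sub_mem hx (hmn n)
    rw [show n.asIdeal.comap iR = n'.asIdeal.comap iR from congrArg MaximalSpectrum.asIdeal h] at h1
    simpa using add_mem (hmn n') h1
  · letI : Algebra R' (T ⊗[A] R') := iR.toAlgebra
    haveI := m.isMaximal
    let e : (T ⊗[A] R') ≃+* R' ⊗[A] T := (Algebra.TensorProduct.comm A T R').toRingEquiv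
    obtain ⟨Q, hQ⟩ := PrimeSpectrum.comap_surjective_of_faithfullyFlat (A := R') (B := R' ⊗[A] T)
      ⟨m.asIdeal, inferInstance⟩
    have hQm : (Q.asIdeal.comap e.toRingHom).comap iR = m.asIdeal := by
      rw [Ideal.comap_comap]
      refine Eq.trans (congrArg (Ideal.comap · Q.asIdeal) (RingHom.ext fun b => ?_)) congr(($hQ).asIdeal)
      show e ((1 : T) ⊗ₜ[A] b) = _
      simp [e]
    obtain ⟨n, hn, hle⟩ := Ideal.exists_le_maximal (Q.asIdeal.comap e.toRingHom) (Ideal.IsPrime.ne_top inferInstance)
    exact ⟨⟨n, hn⟩, MaximalSpectrum.ext (m.isMaximal.eq_of_le (hmax n hn).2.ne_top (hQm ▸ Ideal.comap_mono hle)).symm⟩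

/-- Geometrically normal formal fibres: branches and geometric branches are those of the completion. -/
theorem numBranches_cpl_eq :
    Brnch.numBranches T = Brnch.numBranches A ∧ Brnch.numGeomBranches T = Brnch.numGeomBranches A := by
  obtain ⟨hN, hmin, hbir⟩ := completed_normalization A hA
  haveI := finite_normRed A hA
  haveI : IsNoetherianRing T := Groth.Agent.FormalFib6.isNoetherianRing_adicCompletion A _
  haveI hT := henselianLocalRing_completion A
  constructor
  · haveI hl : IsLocalHom (algebraMap T T) := ⟨fun _ hu => hu⟩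
    haveI := Groth.Agent.Hensel.isHenselization_self T hT
    obtain ⟨e⟩ := nonempty_minimalPrimes_equiv_maximalSpectrum T T (T ⊗[A] R') hN hmin hbir
    rw [← card_minimalPrimes_henselization (A := T) T, ENat.card_congr e, card_maximalSpectrum_completed A hA,
      Brnch.numBranches, if_pos (minimalPrimes_finite' A)]
  · obtain ⟨S, _, _, _, _, hS⟩ := Groth.Agent.S0537.result T
    haveI : HenselianLocalRing S := hS.henselian
    haveI : IsSepClosed (ResidueField S) := hS.isSepClosure.sep_closed
    haveI : Algebra.IsSeparable (ResidueField T) (ResidueField S) := hS.isSepClosure.separable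
    have hH := Groth.Agent.Hensel.isHenzLike_of_isStrictHenselization T S
    obtain ⟨e⟩ := nonempty_minimalPrimes_equiv_tensor T S hH (T ⊗[A] R')
      (fun n _ => isDomain_localization_tensor_strict T S (T ⊗[A] R') hN n) hmin hbir
    -- the residue field
    have hsurj : Function.Surjective (ResidueField.map (algebraMap A T)) := fun y => by
      obtain ⟨t, rfl⟩ := residue_surjective y
      obtain ⟨z, hz⟩ := Submodule.Quotient.mk_surjective _ (t.val 1)
      refine ⟨residue A z, ?_⟩
      change residue T (algebraMap A T z) = _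
      symm
      rw [← sub_eq_zero, ← map_sub, residue_eq_zero_iff, AdicCompletion.mem_maximalIdeal_iff_eval_one_eq_zero,
        AdicCompletion.val_sub_apply, sub_eq_zero, ← hz]
      rfl
    let r : ResidueField A ≃+* ResidueField T := RingEquiv.ofBijective _ ⟨RingHom.injective _, hsurj⟩
    let K := AlgebraicClosure (ResidueField A)
    letI : Algebra (ResidueField T) K := ((algebraMap (ResidueField A) K).comp r.symm.toRingHom).toAlgebra
    let j : ResidueField S →ₐ[ResidueField T] K := IsAlgClosed.lift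
    let jT : T →+* K := (algebraMap (ResidueField T) K).comp (residue T)
    have hj : (j.toRingHom.comp (residue S)).comp (algebraMap T S) = jT :=
      RingHom.ext fun t => j.commutes (residue T t)
    obtain ⟨e'⟩ := nonempty_maximalSpectrum_tensor_equiv T S (T ⊗[A] R') K j.toRingHom jT hj
    have hjT : RingHom.ker jT = maximalIdeal T := by
      ext t
      rw [RingHom.mem_ker, RingHom.comp_apply, map_eq_zero, residue_eq_zero_iff]
    have hjA : jT.comp (algebraMap A T) = Brnch.toClosure A := RingHom.ext fun a => by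
      change algebraMap (ResidueField A) K (r.symm (residue T (algebraMap A T a))) = _
      rw [show residue T (algebraMap A T a) = r (residue A a) from rfl, RingEquiv.symm_apply_apply]
      rfl
    have hkA : (RingHom.ker (Brnch.toClosure A)).IsMaximal := by
      rw [← hjA, ← RingHom.comap_ker, hjT, IsLocalRing.maximalIdeal_comap]
      infer_instance
    let E : {φ : T ⊗[A] R' →+* K // φ.comp (algebraMap T (T ⊗[A] R')) = jT} ≃
        {φ : R' →+* K // φ.comp (algebraMap A R') = Brnch.toClosure A} :=
      { toFun := fun φ => ⟨φ.1.comp (Algebra.TensorProduct.includeRight : R' →ₐ[A] T ⊗[A] R').toRingHom,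
          RingHom.ext fun a => by
            rw [← hjA, RingHom.comp_apply jT, ← RingHom.congr_fun φ.2 (algebraMap A T a)]
            change φ.1 _ = φ.1 _
            congr 1
            simp only [AlgHom.toRingHom_eq_coe, RingHom.coe_coe, AlgHom.commutes]
            exact IsScalarTower.algebraMap_apply A T (T ⊗[A] R') a⟩
        invFun := fun φ => ⟨letI := (Brnch.toClosure A).toAlgebra
          (Algebra.TensorProduct.lift
            ({ jT with commutes' := fun a => RingHom.congr_fun hjA a } : T →ₐ[A] K)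
            ({ φ.1 with commutes' := fun a => RingHom.congr_fun φ.2 a } : R' →ₐ[A] K)
            fun _ _ => Commute.all _ _).toRingHom,
          RingHom.ext fun t => by simp⟩
        left_inv := fun φ => Subtype.ext (Algebra.TensorProduct.ringHom_ext
          (RingHom.ext fun t => by
            simp only [AlgHom.toRingHom_eq_coe, RingHom.comp_apply, RingHom.coe_coe]
            simpa [← Algebra.TensorProduct.one_def] using (RingHom.congr_fun φ.2 t).symm)
          (RingHom.ext fun b => by simp))
        right_inv := fun φ => Subtype.ext (RingHom.ext fun b => by simp) }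
    rw [← card_minimalPrimes_strictHenselization T S, ENat.card_congr (e.trans (e'.trans
      ((pointsEquiv jT (hjT ▸ maximalIdeal.isMaximal T)).trans (E.trans (pointsEquiv (Brnch.toClosure A) hkA).symm)))),
      Brnch.numGeomBranches, if_pos (minimalPrimes_finite' A)]
    refine ENat.card_congr (Equiv.sigmaCongrRight fun m => Equiv.subtypeEquivRight fun σ => ?_)
    rw [show Brnch.toResidue A m = (Ideal.Quotient.mk m.asIdeal).comp (algebraMap A (CAlg2.normRed A)) from
      congrArg (RingHom.comp _) (IsScalarTower.algebraMap_eq A (CAlg2.red A) (CAlg2.normRed A)).symm]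

end Groth.Agent.BrnchLib
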