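import Groth.Agent.BrnchLib.DimOneCompl
import Groth.Agent.S0541
import Groth.Agent.S0547

/-! A one-dimensional Noetherian local ring and its completion have the same branches. -/

noncomputable section

namespace Groth.Agent.BrnchLib

universe u

open IsLocalRing

set_option linter.style.haveILetI false

section Map

variable {A S : Type u} [CommRing A] [IsLocalRing A] [CommRing S] [IsLocalRing S] (φ : A →+* S) [IsLocalHom φ]

theorem le_comap_pow (n : ℕ) : maximalIdeal A ^ n ≤ (maximalIdeal S ^ n).comap φ := by
  rw [← Ideal.map_le_iff_le_comap, Ideal.map_pow]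
  exact Ideal.pow_right_mono (((IsLocalRing.local_hom_TFAE φ).out 0 2).1 ‹_›) n

def complStage (n : ℕ) : AdicCompletion (maximalIdeal A) A →+* S ⧸ maximalIdeal S ^ n :=
  (Ideal.quotientMap _ φ (le_comap_pow φ n)).comp (AdicCompletion.evalₐ (maximalIdeal A) n).toRingHom

theorem complStage_compat {m n : ℕ} (h : m ≤ n) :
    (Ideal.Quotient.factorPow (maximalIdeal S) h).comp (complStage φ n) = complStage φ m :=
  RingHom.ext fun x => by
    change Ideal.Quotient.factorPow (maximalIdeal S) h (Ideal.quotientMap _ φ (le_comap_pow φ n)
      (AdicCompletion.evalₐ (maximalIdeal A) n x)) = Ideal.quotientMap _ φ (le_comap_pow φ m)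
      (AdicCompletion.evalₐ (maximalIdeal A) m x)
    rw [← evalₐ_factor _ h x]
    obtain ⟨a, ha⟩ := Ideal.Quotient.mk_surjective (AdicCompletion.evalₐ (maximalIdeal A) n x)
    rw [← ha]
    rfl

/-- The completion of a local map. -/
def complMap : AdicCompletion (maximalIdeal A) A →+* AdicCompletion (maximalIdeal S) S :=
  AdicCompletion.liftRingHom (maximalIdeal S) (complStage φ) (complStage_compat φ)

theorem complMap_of (a : A) : complMap φ (algebraMap A (AdicCompletion (maximalIdeal A) A) a) =
    algebraMap S (AdicCompletion (maximalIdeal S) S) (φ a) := by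
  refine AdicCompletion.ext_evalₐ fun n => ?_
  refine (AdicCompletion.evalₐ_liftRingHom _ _ (complStage_compat φ) n _).trans ?_
  change Ideal.quotientMap _ φ (le_comap_pow φ n) (AdicCompletion.evalₐ (maximalIdeal A) n (algebraMap A _ a)) = _
  rw [AlgHom.commutes, AlgHom.commutes]
  rfl

end Map

theorem numBranches_eq (A : Type u) [CommRing A] [IsLocalRing A] [IsNoetherianRing A]
    (hA : ringKrullDim A = 1) :
    Brnch.numBranches (AdicCompletion (maximalIdeal A) A) = Brnch.numBranches A := by
  set A' := AdicCompletion (maximalIdeal A) A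
  haveI : IsNoetherianRing A' := Groth.Agent.FormalFib6.isNoetherianRing_adicCompletion A _
  obtain ⟨S, _, _, _, _, hS⟩ := Groth.Agent.S0506.result A
  haveI : IsNoetherianRing S :=
    (Groth.Agent.Hensel.isHenzLike_of_isHenselization A S).isNoetherianRing_iff.1 inferInstance
  haveI hT := henselianLocalRing_completion A
  obtain ⟨ψ, hψ, -⟩ := hS.universal A' (algebraMap A A') inferInstance
  haveI hl : IsLocalHom (algebraMap A' A') := ⟨fun _ hu => hu⟩
  haveI := Groth.Agent.Hensel.isHenselization_self A' hT
  rw [← card_minimalPrimes_henselization A S, ← card_minimalPrimes_henselization A' A']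
  haveI : HenselianLocalRing S := hS.henselian
  letI := ψ.toAlgebra
  haveI : Module.FaithfullyFlat S A' := faithfullyFlat_psi A S ψ hψ
  exact (card_minimalPrimes_eq_of_dim_le_one (map_psi_maximalIdeal A S ψ hψ) (psi_dense A S ψ hψ)
    (by rw [Groth.Agent.S0547.result, hA])).symm

theorem numGeomBranches_eq (A : Type u) [CommRing A] [IsLocalRing A] [IsNoetherianRing A]
    (hA : ringKrullDim A = 1) :
    Brnch.numGeomBranches (AdicCompletion (maximalIdeal A) A) = Brnch.numGeomBranches A := by
  refine le_antisymm ?_ (numGeomBranches_le A)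
  set A' := AdicCompletion (maximalIdeal A) A
  haveI : IsNoetherianRing A' := Groth.Agent.FormalFib6.isNoetherianRing_adicCompletion A _
  obtain ⟨S, _, _, _, _, hS⟩ := Groth.Agent.S0537.result A
  obtain ⟨T, _, _, _, _, hT⟩ := Groth.Agent.S0537.result A'
  rw [← card_minimalPrimes_strictHenselization A S, ← card_minimalPrimes_strictHenselization A' T]
  haveI : HenselianLocalRing S := hS.henselian
  haveI : IsNoetherianRing S := (Groth.Agent.S0540.result A S).1 inferInstance
  haveI : IsNoetherianRing T := (Groth.Agent.S0540.result A' T).1 inferInstance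
  set S' := AdicCompletion (maximalIdeal S) S
  haveI : IsNoetherianRing S' := Groth.Agent.FormalFib6.isNoetherianRing_adicCompletion S _
  have hSS' : (maximalIdeal S).map (algebraMap S S') = maximalIdeal S' := AdicCompletion.maximalIdeal_eq_map.symm
  haveI : Module.FaithfullyFlat S S' := Module.FaithfullyFlat.of_flat_of_isLocalHom
  rw [card_minimalPrimes_eq_of_dim_le_one (T := S') hSS' (exists_sub_of_mem S)
    (by rw [Groth.Agent.S0547.result, Groth.Agent.S0541.result A S, hA])]
  -- `A'` maps to `S'`
  let f : A' →+* S' := complMap (algebraMap A S)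
  letI : Algebra A' S' := f.toAlgebra
  haveI : IsScalarTower A A' S' := IsScalarTower.of_algebraMap_eq fun a =>
    (IsScalarTower.algebraMap_apply A S S' a).trans (complMap_of (algebraMap A S) a).symm
  have hA'm : maximalIdeal A' = (maximalIdeal A).map (algebraMap A A') := AdicCompletion.maximalIdeal_eq_map
  have hf : (maximalIdeal A').map (algebraMap A' S') = maximalIdeal S' := by
    rw [hA'm, Ideal.map_map, ← IsScalarTower.algebraMap_eq, IsScalarTower.algebraMap_eq A S S', ← Ideal.map_map,
      Groth.Agent.S0538.result A S, hSS']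
  haveI : IsLocalHom (algebraMap A' S') := ⟨fun x hx => by
    by_contra h
    exact (notMem_maximalIdeal.2 hx) (hf ▸ Ideal.mem_map_of_mem _ ((mem_maximalIdeal x).2 h))⟩
  haveI : Module.FaithfullyFlat A S := Groth.Agent.S0539.result A S
  haveI : Module.Flat A S' := Module.Flat.trans A S S'
  haveI : Module.Flat A' S' := flat_of_map_maximalIdeal (A := A) hA'm.symm
  -- the strict henselization maps to `S'`
  haveI : HenselianLocalRing S' := henselianLocalRing_completion S
  haveI : IsSepClosed (ResidueField S) := hS.isSepClosure.sep_closed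
  haveI : Algebra.IsSeparable (ResidueField A') (ResidueField T) := hT.isSepClosure.separable
  let ρ : ResidueField S →+* ResidueField S' := ResidueField.map (algebraMap S S')
  have hρ : Function.Surjective ρ := fun y => by
    obtain ⟨t, rfl⟩ := residue_surjective y
    obtain ⟨s, hs⟩ := exists_sub_of_mem S 1 t
    refine ⟨residue S s, ?_⟩
    rw [pow_one, hSS', ← residue_eq_zero_iff, map_sub, sub_eq_zero] at hs
    exact hs.symm
  haveI : IsSepClosed (ResidueField S') := by
    let e : ResidueField S ≃+* ResidueField S' := RingEquiv.ofBijective ρ ⟨RingHom.injective _, hρ⟩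
    exact IsSepClosed.of_exists_root _ fun p hm hirr hsep => by
      obtain ⟨x, hx⟩ := IsSepClosed.exists_root (p.map e.symm.toRingHom)
        (by rw [Polynomial.degree_map]; exact hirr.degree_pos.ne')
        (Polynomial.Separable.map hsep)
      refine ⟨e x, ?_⟩
      have h := hx.map (f := e.toRingHom)
      rw [Polynomial.map_map, RingEquiv.toRingHom_comp_symm_toRingHom, Polynomial.map_id] at h
      exact h
  letI : Algebra (ResidueField A') (ResidueField S') := (ResidueField.map (algebraMap A' S')).toAlgebra
  let τ : ResidueField T →ₐ[ResidueField A'] ResidueField S' := IsSepClosed.lift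
  obtain ⟨g, ⟨hg, hgτ⟩, -⟩ := hT.universal S' (algebraMap A' S') τ.toRingHom (RingHom.ext fun x => τ.commutes x)
  letI : Algebra T S' := g.toAlgebra
  haveI : IsScalarTower A' T S' := IsScalarTower.of_algebraMap_eq fun a => (RingHom.congr_fun hg a).symm
  haveI : IsLocalHom (algebraMap T S') := ⟨fun x hx => by
    rw [← notMem_maximalIdeal, ← residue_eq_zero_iff] at hx ⊢
    intro h0
    exact hx ((hgτ x).trans (by rw [h0, map_zero]))⟩
  haveI : Module.Flat T S' := flat_of_map_maximalIdeal (A := A') (Groth.Agent.S0538.result A' T)
  haveI : Module.FaithfullyFlat T S' := Module.FaithfullyFlat.of_flat_of_isLocalHom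
  refine card_minimalPrimes_le g ?_
  convert (inferInstance : Module.FaithfullyFlat T S')

end Groth.Agent.BrnchLib
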