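import Groth.Agent.BrnchLib.ComplMin
import Groth.Agent.BrnchLib.HenzStrict
import Groth.Agent.FormalFib6.Cplt
import Groth.Agent.LocalCrit.Fibre
import Groth.Agent.S0506
import Groth.Agent.S0537
import Groth.Agent.S0538
import Groth.Agent.S0539
import Groth.Agent.S0540

/-! Branches of the completion. -/

noncomputable section

namespace Groth.Agent.BrnchLib

universe u

open IsLocalRing

set_option linter.style.haveILetI false

/-- An unramified local map over `A` from a flat to a flat algebra is flat. -/
theorem flat_of_map_maximalIdeal {A S T : Type u} [CommRing A] [CommRing S] [CommRing T]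
    [IsLocalRing A] [IsLocalRing S] [IsLocalRing T] [IsNoetherianRing S] [IsNoetherianRing T]
    [Algebra A S] [Algebra A T] [Algebra S T] [IsScalarTower A S T] [Module.Flat A T]
    [IsLocalHom (algebraMap S T)] (h : (maximalIdeal A).map (algebraMap A S) = maximalIdeal S) :
    Module.Flat S T := by
  refine Groth.Agent.LocalCrit.flat_of_le_jacobson (B := T) (M := T) (maximalIdeal S) ?_ ?_ ?_
  · rw [jacobson_eq_maximalIdeal _ bot_ne_top]
    exact Ideal.map_le_iff_le_comap.2 fun x hx hu => hx (isUnit_of_map_unit (algebraMap S T) x hu)
  · rw [← h]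
    exact Groth.Agent.LocalCrit.rTensor_map_injective _
  · exact Groth.Agent.LocalCrit.keepsInjective_of_isMaximal _ _

theorem card_minimalPrimes_le {S T : Type u} [CommRing S] [CommRing T] (ψ : S →+* T)
    (hψ : letI := ψ.toAlgebra; Module.FaithfullyFlat S T) :
    ENat.card (minimalPrimes S) ≤ ENat.card (minimalPrimes T) := by
  let f : minimalPrimes T → minimalPrimes S := fun P => ⟨P.1.comap ψ, comap_mem_minimalPrimes ψ hψ P.2⟩
  have hf : Function.Surjective f := fun q => by
    obtain ⟨P, hP, h⟩ := surjOn_minimalPrimes ψ hψ q.2
    exact ⟨⟨P, hP⟩, Subtype.ext h⟩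
  exact ENat.card_le_card_of_injective (Function.injective_surjInv hf)

variable (A : Type u) [CommRing A] [IsLocalRing A] [IsNoetherianRing A]

/-- Geometric branches can only increase in the completion. -/
theorem numGeomBranches_le : Brnch.numGeomBranches A ≤
    Brnch.numGeomBranches (AdicCompletion (maximalIdeal A) A) := by
  set A' := AdicCompletion (maximalIdeal A) A
  haveI : IsNoetherianRing A' := Groth.Agent.FormalFib6.isNoetherianRing_adicCompletion A _
  obtain ⟨S, _, _, _, _, hS⟩ := Groth.Agent.S0537.result A
  obtain ⟨T, _, _, _, _, hT⟩ := Groth.Agent.S0537.result A'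
  rw [← card_minimalPrimes_strictHenselization A S, ← card_minimalPrimes_strictHenselization A' T]
  haveI : HenselianLocalRing T := hT.henselian
  let f : A →+* T := (algebraMap A' T).comp (algebraMap A A')
  haveI : IsLocalHom (algebraMap A A') := inferInstance
  haveI : IsLocalHom f := inferInstanceAs (IsLocalHom ((algebraMap A' T).comp (algebraMap A A')))
  letI : Algebra A T := f.toAlgebra
  haveI : IsScalarTower A A' T := IsScalarTower.of_algebraMap_eq fun _ => rfl
  letI : Algebra (ResidueField A) (ResidueField T) := (ResidueField.map f).toAlgebra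
  haveI : IsSepClosed (ResidueField T) := hT.isSepClosure.sep_closed
  haveI : Algebra.IsSeparable (ResidueField A) (ResidueField S) := hS.isSepClosure.separable
  let τ : ResidueField S →ₐ[ResidueField A] ResidueField T := IsSepClosed.lift
  obtain ⟨g, ⟨hg, hgτ⟩, -⟩ := hS.universal T f τ.toRingHom (RingHom.ext fun x => τ.commutes x)
  letI : Algebra S T := g.toAlgebra
  haveI : IsScalarTower A S T := IsScalarTower.of_algebraMap_eq fun a => (RingHom.congr_fun hg a).symm
  haveI : IsLocalHom (algebraMap S T) := ⟨fun x hx => by
    rw [← notMem_maximalIdeal, ← residue_eq_zero_iff] at hx ⊢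
    intro h0
    exact hx ((hgτ x).trans (by rw [h0, map_zero]))⟩
  haveI : IsNoetherianRing S := (Groth.Agent.S0540.result A S).1 inferInstance
  haveI : IsNoetherianRing T := (Groth.Agent.S0540.result A' T).1 inferInstance
  haveI : Module.FaithfullyFlat A' T := Groth.Agent.S0539.result A' T
  haveI : Module.Flat A T := Module.Flat.trans A A' T
  haveI : Module.Flat S T := flat_of_map_maximalIdeal (A := A) (Groth.Agent.S0538.result A S)
  haveI : Module.FaithfullyFlat S T := Module.FaithfullyFlat.of_flat_of_isLocalHom
  refine card_minimalPrimes_le g ?_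
  convert (inferInstance : Module.FaithfullyFlat S T)

/-- Branches can only increase in the completion. -/
theorem numBranches_le : Brnch.numBranches A ≤ Brnch.numBranches (AdicCompletion (maximalIdeal A) A) := by
  set A' := AdicCompletion (maximalIdeal A) A
  obtain ⟨S, _, _, _, _, hS⟩ := Groth.Agent.S0506.result A
  haveI hT := henselianLocalRing_completion A
  obtain ⟨ψ, hψ, -⟩ := hS.universal A' (algebraMap A A') inferInstance
  have h := faithfullyFlat_psi A S ψ hψ
  haveI hl : IsLocalHom (algebraMap A' A') := ⟨fun _ hu => hu⟩
  haveI := Groth.Agent.Hensel.isHenselization_self A' hT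
  rw [← card_minimalPrimes_henselization A S, ← card_minimalPrimes_henselization A' A']
  exact card_minimalPrimes_le ψ h

end Groth.Agent.BrnchLib
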