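import Groth.Agent.BrnchLib.ComplLe
import Groth.Agent.Hensel.Pair
import Mathlib.RingTheory.TensorProduct.Quotient
import Mathlib.RingTheory.KrullDimension.Basic

/-!
# One-dimensional branches of the completion come from the henselization

Let `D` be a henselian Noetherian local domain and `T` a faithfully flat local algebra in which `D` is dense.
If `q` is a minimal prime of `T` with `dim T/q ≤ 1` then it is the only minimal prime: otherwise an idempotent
of `T[1/f]` cutting out `q` can be approximated by an element of the fraction field of `D` satisfying a monic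
quadratic equation with two simple roots, hence lying in `D`.
-/

noncomputable section

namespace Groth.Agent.BrnchLib

universe u

open IsLocalRing TensorProduct

set_option linter.style.haveILetI false

variable {D T : Type u} [CommRing D] [CommRing T] [Algebra D T]

/-- Torsion elements modulo an ideal in a flat algebra come from those of the ring. -/
theorem mem_map_colon_of_flat [Module.Flat D T] (I : Ideal D) {r : ℕ} (a : Fin r → D) (y : T)
    (hy : ∀ i, algebraMap D T (a i) * y ∈ I.map (algebraMap D T)) :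
    ∃ L : Ideal D, (∀ d ∈ L, ∀ i, a i * d ∈ I) ∧ y ∈ L.map (algebraMap D T) := by
  let φ : D →ₗ[D] (Fin r → D ⧸ I) := LinearMap.pi fun i => (Submodule.mkQ I) ∘ₗ LinearMap.mulLeft D (a i)
  refine ⟨LinearMap.ker φ, fun d hd i => (Submodule.Quotient.mk_eq_zero _).1 (congrFun (LinearMap.mem_ker.1 hd) i), ?_⟩
  have hex := Module.Flat.lTensor_exact T (LinearMap.exact_subtype_ker_map φ)
  have h0 : φ.lTensor T (y ⊗ₜ 1) = 0 := by
    refine (TensorProduct.piRight D D T (fun _ : Fin r => D ⧸ I)).injective (funext fun i => ?_)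
    rw [map_zero, LinearMap.lTensor_tmul, TensorProduct.piRight_apply]
    simp only [TensorProduct.piRightHom_tmul, Pi.zero_apply]
    apply (TensorProduct.quotTensorEquivQuotSMul T I).injective.comp (TensorProduct.comm D T (D ⧸ I)).injective
    simp only [Function.comp_apply, TensorProduct.comm_tmul, map_zero]
    change TensorProduct.quotTensorEquivQuotSMul T I (Ideal.Quotient.mk I (a i * 1) ⊗ₜ[D] y) = 0
    rw [TensorProduct.quotTensorEquivQuotSMul_mk_tmul, Submodule.Quotient.mk_eq_zero, mul_one,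
      Ideal.smul_top_eq_map, Submodule.restrictScalars_mem, Algebra.smul_def]
    exact hy i
  obtain ⟨w, hw⟩ := (hex _).1 h0
  have hm : ∀ w, TensorProduct.rid D T ((LinearMap.ker φ).subtype.lTensor T w) ∈
      Ideal.map (algebraMap D T) (LinearMap.ker φ) := fun w => by
    induction w with
    | zero => simp
    | tmul t l =>
      rw [LinearMap.lTensor_tmul, TensorProduct.rid_tmul, Algebra.smul_def]
      exact Ideal.mul_mem_right _ _ (Ideal.mem_map_of_mem _ l.2)
    | add x y hx hy =>
      rw [map_add, map_add]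
      exact add_mem hx hy
  have := hm w
  rw [hw, TensorProduct.rid_tmul, one_smul] at this
  exact this

/-- Torsion elements of a finite length modulo an ideal come from the ring. -/
theorem exists_sub_mem_of_torsion [IsNoetherianRing D] [Module.Flat D T] (I J : Ideal D)
    (hd : ∀ t : T, ∃ d : D, t - algebraMap D T d ∈ J.map (algebraMap D T)) (y : T)
    (hy : ∀ a ∈ J, algebraMap D T a * y ∈ I.map (algebraMap D T)) :
    ∃ d : D, y - algebraMap D T d ∈ I.map (algebraMap D T) := by
  obtain ⟨r, a, ha⟩ := Submodule.fg_iff_exists_fin_generating_family.1 (IsNoetherian.noetherian J)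
  obtain ⟨L, hL, hyL⟩ := mem_map_colon_of_flat I a y fun i => hy _ (ha ▸ Submodule.subset_span ⟨i, rfl⟩)
  have hJL : J * L ≤ I := by
    rw [← ha]
    refine Ideal.mul_le.2 fun x hx l hl => ?_
    induction hx using Submodule.span_induction with
    | mem x hx =>
      obtain ⟨i, rfl⟩ := hx
      exact hL l hl i
    | zero => simp
    | add x z _ _ hx hz => exact add_mul x z l ▸ add_mem hx hz
    | smul c x _ hx => exact smul_eq_mul c x ▸ mul_assoc c x l ▸ I.mul_mem_left c hx
  suffices ∃ d ∈ L, y - algebraMap D T d ∈ I.map (algebraMap D T) from ⟨this.choose, this.choose_spec.2⟩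
  clear hy
  induction hyL using Submodule.span_induction with
  | mem x hx =>
    obtain ⟨l, hl, rfl⟩ := hx
    exact ⟨l, hl, by simp⟩
  | zero => exact ⟨0, zero_mem _, by simp⟩
  | add x z _ _ hx hz =>
    obtain ⟨d, hd', h⟩ := hx
    obtain ⟨e, he, h'⟩ := hz
    exact ⟨d + e, add_mem hd' he, by rw [map_add]; convert add_mem h h' using 1; ring⟩
  | smul t x _ hx =>
    obtain ⟨d, hd', h⟩ := hx
    obtain ⟨c, hc⟩ := hd t
    refine ⟨c * d, L.mul_mem_left c hd', ?_⟩
    have h2 : (t - algebraMap D T c) * algebraMap D T d ∈ I.map (algebraMap D T) := by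
      refine Ideal.map_mono hJL ?_
      rw [Ideal.map_mul]
      exact Ideal.mul_mem_mul hc (Ideal.mem_map_of_mem _ hd')
    convert add_mem (Ideal.mul_mem_left _ t h) h2 using 1
    rw [map_mul, smul_eq_mul]
    ring

/-- The core: a one-dimensional branch of a dense faithfully flat algebra over a henselian domain is
the only one. -/
theorem minimalPrimes_eq_singleton [IsDomain D] [IsLocalRing D] [IsNoetherianRing D] [HenselianLocalRing D]
    [IsLocalRing T] [IsNoetherianRing T] [Module.FaithfullyFlat D T]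
    (hm : (maximalIdeal D).map (algebraMap D T) = maximalIdeal T)
    (hd : ∀ (k : ℕ) (t : T), ∃ d : D, t - algebraMap D T d ∈ (maximalIdeal D ^ k).map (algebraMap D T))
    {q : Ideal T} (hq : q ∈ minimalPrimes T) (hdim : ringKrullDim (T ⧸ q) ≤ 1) :
    minimalPrimes T = {q} := by
  refine Set.eq_singleton_iff_unique_mem.2 ⟨hq, fun P hP => ?_⟩
  haveI := hq.1.1
  haveI := hP.1.1
  by_contra hne
  have hPm : P ≤ maximalIdeal T := le_maximalIdeal hP.1.1.ne_top
  have hqm : q ≤ maximalIdeal T := le_maximalIdeal hq.1.1.ne_top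
  by_cases hqmax : q = maximalIdeal T
  · exact hne (le_antisymm (hqmax ▸ hPm) (hq.2 ⟨hP.1.1, bot_le⟩ (hqmax ▸ hPm)))
  have hff : letI := (algebraMap D T).toAlgebra; Module.FaithfullyFlat D T := by
    rw [show (algebraMap D T).toAlgebra = ‹Algebra D T› from Algebra.algebra_ext _ _ fun _ => rfl]
    infer_instance
  have hbot : ∀ {Q : Ideal T}, Q ∈ minimalPrimes T → Q.comap (algebraMap D T) = ⊥ := fun {Q} hQ => by
    have h := comap_mem_minimalPrimes (algebraMap D T) hff hQ
    rw [IsDomain.minimalPrimes_eq_singleton_bot] at h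
    exact h
  obtain ⟨f, hfm, hfq⟩ : ∃ f ∈ maximalIdeal D, algebraMap D T f ∉ q := by
    by_contra h
    push Not at h
    exact hqmax (le_antisymm hqm (hm ▸ Ideal.map_le_iff_le_comap.2 h))
  have hf0 : f ≠ 0 := fun h => hfq (by rw [h, map_zero]; exact zero_mem _)
  -- primes strictly containing `q` are maximal
  have hbig : ∀ Q : Ideal T, Q.IsPrime → q ≤ Q → Q ≠ q → Q = maximalIdeal T := fun Q hQ hle hQq => by
    by_contra hQm
    haveI : Ring.KrullDimLE 1 (T ⧸ q) := (Ring.krullDimLE_iff).2 hdim
    have hQ' : (Q.map (Ideal.Quotient.mk q)).IsPrime :=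
      Ideal.map_isPrime_of_surjective Ideal.Quotient.mk_surjective (by rwa [Ideal.mk_ker])
    rcases or_iff_not_imp_left.2 (fun h => Ring.krullDimLE_one_iff_of_noZeroDivisors.1 inferInstance
      (Q.map (Ideal.Quotient.mk q)) h hQ') with h | h
    · rw [Ideal.map_eq_bot_iff_le_ker, Ideal.mk_ker] at h
      exact hQq (le_antisymm h hle)
    · refine hQm (IsLocalRing.eq_maximalIdeal ?_)
      have := Ideal.comap_isMaximal_of_surjective (Ideal.Quotient.mk q) Ideal.Quotient.mk_surjective (K := Q.map (Ideal.Quotient.mk q))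
      rwa [Ideal.comap_map_of_surjective _ Ideal.Quotient.mk_surjective, ← RingHom.ker_eq_comap_bot,
        Ideal.mk_ker, sup_of_le_left hle] at this
  -- an element in all other branches
  obtain ⟨g, hg, hgq⟩ : ∃ g, (∀ Q ∈ minimalPrimes T, Q ≠ q → g ∈ Q) ∧ g ∉ q := by
    have hfin := (minimalPrimes.finite_of_isNoetherianRing T)
    classical
    have hnle : ¬ ((hfin.toFinset.erase q).inf id) ≤ q := fun h => by
      obtain ⟨Q, hQ, hle⟩ := (hq.1.1.inf_le').1 h
      rw [Finset.mem_erase, Set.Finite.mem_toFinset] at hQ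
      exact hQ.1 (le_antisymm hle (hq.2 ⟨hQ.2.1.1, bot_le⟩ hle))
    obtain ⟨g, hg, hgq⟩ := SetLike.not_le_iff_exists.1 hnle
    exact ⟨g, fun Q hQ hQq => Finset.inf_le (f := id) (Finset.mem_erase.2 ⟨hQq, hfin.mem_toFinset.2 hQ⟩) hg, hgq⟩
  obtain ⟨n, hn⟩ : ∃ n : ℕ, (Ideal.span {g} * q) ^ n = ⊥ := by
    have hle : Ideal.span {g} * q ≤ nilradical T := by
      rw [nilradical, Ideal.zero_eq_bot, ← Ideal.sInf_minimalPrimes]
      refine le_sInf fun Q hQ => ?_
      by_cases hQq : Q = q
      · exact hQq ▸ Ideal.mul_le_right (I := Ideal.span {g}) (J := Q)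
      · exact Ideal.mul_le_left.trans ((Ideal.span_singleton_le_iff_mem _).2 (hg Q hQ hQq))
    obtain ⟨n, hn⟩ := IsNoetherianRing.isNilpotent_nilradical T
    exact ⟨n, le_bot_iff.1 ((Ideal.pow_right_mono hle n).trans hn.le)⟩
  have hann : ∀ u ∈ q ^ n, g ^ n * u = 0 := fun u hu => by
    rw [mul_pow, Ideal.span_singleton_pow] at hn
    exact Ideal.mem_bot.1 (hn ▸ Ideal.mul_mem_mul (Ideal.mem_span_singleton_self _) hu)
  -- a power of `f` splits
  have hrad : algebraMap D T f ∈ (q ^ n ⊔ Ideal.span {g ^ n}).radical := by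
    rw [Ideal.radical_eq_sInf]
    refine Submodule.mem_sInf.2 fun Q ⟨hle, hQ⟩ => ?_
    rw [sup_le_iff, Ideal.span_singleton_le_iff_mem] at hle
    have hgQ := hQ.mem_of_pow_mem n hle.2
    rw [hbig Q hQ (hQ.le_of_pow_le hle.1) (fun h => hgq (h ▸ hgQ)), ← hm]
    exact Ideal.mem_map_of_mem _ hfm
  obtain ⟨j₀, hj₀⟩ := hrad
  have hj := Ideal.mul_mem_left _ (algebraMap D T f) hj₀
  rw [← pow_succ'] at hj
  set j := j₀ + 1 with hjdef
  set F := algebraMap D T f
  obtain ⟨w, hw, z, hz, hwz⟩ := Submodule.mem_sup.1 hj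
  obtain ⟨v, rfl⟩ := Ideal.mem_span_singleton'.1 hz
  set c := v * g ^ n
  have hc2 : c * c = c * F ^ j := by rw [← hwz, mul_add, show c * w = v * (g ^ n * w) by ring, hann w hw]; ring
  have hcann : ∀ u ∈ q ^ n, c * u = 0 := fun u hu => by
    rw [show c * u = v * (g ^ n * u) by ring, hann u hu, mul_zero]
  have hn0 : n ≠ 0 := fun h => by
    subst h
    rw [pow_zero, Ideal.one_eq_top] at hn
    exact absurd hn top_ne_bot
  have hcq : c ∉ q := fun h => by
    refine hfq (hq.1.1.mem_of_pow_mem j ?_)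
    rw [← hwz]
    exact add_mem (Ideal.pow_le_self hn0 hw) h
  have hcP : c ∈ P := Ideal.mul_mem_left _ v (Ideal.pow_mem_of_mem P (hg P hP hne) n (Nat.pos_of_ne_zero hn0))
  -- `c` is torsion modulo `F ^ (2 * j)`
  obtain ⟨k, hk⟩ : ∃ k : ℕ, (maximalIdeal D ^ k).map (algebraMap D T) ≤ q ^ n ⊔ Ideal.span {F ^ (2 * j)} := by
    have hle : maximalIdeal T ≤ (q ^ n ⊔ Ideal.span {F ^ (2 * j)}).radical := by
      rw [Ideal.radical_eq_sInf]
      refine le_sInf fun Q ⟨hQle, hQ⟩ => ?_
      rw [sup_le_iff, Ideal.span_singleton_le_iff_mem] at hQle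
      exact (hbig Q hQ (hQ.le_of_pow_le hQle.1) (fun h => hfq (h ▸ hQ.mem_of_pow_mem _ hQle.2))).ge
    obtain ⟨k, hk⟩ := Ideal.exists_pow_le_of_le_radical_of_fg hle (IsNoetherian.noetherian _)
    exact ⟨k, by rwa [Ideal.map_pow, hm]⟩
  obtain ⟨a, ha⟩ : ∃ a : D, c - algebraMap D T a ∈ (Ideal.span {f ^ (2 * j)}).map (algebraMap D T) := by
    refine exists_sub_mem_of_torsion _ _ (hd k) c fun b hb => ?_
    obtain ⟨u, hu, x, hx, hux⟩ := Submodule.mem_sup.1 (hk (Ideal.mem_map_of_mem _ hb))
    rw [Ideal.map_span, Set.image_singleton, map_pow, ← hux, add_mul, mul_comm u, hcann u hu, zero_add]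
    exact Ideal.mul_mem_right _ _ hx
  rw [Ideal.map_span, Set.image_singleton, map_pow, Ideal.mem_span_singleton'] at ha
  obtain ⟨d, hd'⟩ := ha
  have hFreg : IsSMulRegular T F := (isRegular_iff_ne_zero.2 hf0).left.isSMulRegular.of_flat (S := T)
  have hreg : ∀ (i : ℕ) {x y : T}, F ^ i * x = F ^ i * y → x = y := fun i x y h => by
    refine (hFreg.pow i) ?_
    simpa only [smul_eq_mul] using h
  set β := -2 * c * d + F ^ (2 * j) * d ^ 2 + F ^ j * d
  have hβ : algebraMap D T (a ^ 2 - f ^ j * a) = F ^ (2 * j) * β := by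
    rw [map_sub, map_pow, map_mul, map_pow, show algebraMap D T a = c - d * F ^ (2 * j) by linear_combination hd',
      show (2 * j) = j + j by omega, pow_add]
    linear_combination hc2
  obtain ⟨α, hα⟩ : ∃ α, a ^ 2 - f ^ j * a = f ^ (2 * j) * α := by
    have h : a ^ 2 - f ^ j * a ∈ ((Ideal.span {f ^ (2 * j)}).map (algebraMap D T)).comap (algebraMap D T) := by
      rw [Ideal.mem_comap, hβ, Ideal.map_span, Set.image_singleton, map_pow]
      exact Ideal.mul_mem_right _ _ (Ideal.mem_span_singleton_self _)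
    rw [Ideal.comap_map_eq_self_of_faithfullyFlat, Ideal.mem_span_singleton'] at h
    exact h.imp fun _ h => (mul_comm _ _).trans h |>.symm
  have hαm : α ∈ maximalIdeal D := by
    have h : algebraMap D T α = β := hreg (2 * j) (by rw [← hβ, hα, map_mul, map_pow])
    have hβm : β ∈ maximalIdeal T := by
      have hFm : F ∈ maximalIdeal T := hm ▸ Ideal.mem_map_of_mem _ hfm
      refine add_mem (add_mem (Ideal.mul_mem_right _ _ (Ideal.mul_mem_left _ _ (hPm hcP))) ?_) ?_ <;>
        exact Ideal.mul_mem_right _ _ (Ideal.pow_mem_of_mem _ hFm _ (by omega))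
    by_contra hα'
    exact hβm (h ▸ (notMem_maximalIdeal.1 hα').map (algebraMap D T))
  obtain ⟨r, hr, -⟩ := HenselianLocalRing.is_henselian (Polynomial.X ^ 2 - Polynomial.X - Polynomial.C α)
    (by monicity!) 0 (by simpa using hαm) (by simp)
  simp only [Polynomial.IsRoot.def, Polynomial.eval_sub, Polynomial.eval_pow, Polynomial.eval_X,
    Polynomial.eval_C] at hr
  obtain ⟨s, hs⟩ : ∃ s, a = f ^ j * s := by
    have : (a - f ^ j * r) * (a + f ^ j * r - f ^ j) = 0 := by
      rw [show 2 * j = j + j by omega, pow_add] at hα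
      linear_combination hα + (-(f ^ j * f ^ j)) * hr
    rcases mul_eq_zero.1 this with h | h
    · exact ⟨r, sub_eq_zero.1 h⟩
    · exact ⟨1 - r, by linear_combination h⟩
  set e := algebraMap D T s + d * F ^ j
  have hce : c = F ^ j * e := by
    have h := congrArg (algebraMap D T) hs
    rw [map_mul, map_pow] at h
    rw [show (2 * j) = j + j by omega, pow_add] at hd'
    linear_combination h - hd'
  have hee : e * e = e := by
    refine hreg (j + j) ?_
    rw [hce] at hc2
    rw [pow_add]
    linear_combination hc2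
  rcases (IsLocalRing.isUnit_or_isUnit_one_sub_self e) with h | h
  · have : e = 1 := h.mul_left_cancel (by rw [hee, mul_one])
    rw [hce, this, mul_one] at hcP
    exact hf0 (Ideal.mem_bot.1 (hbot hP ▸ Ideal.mem_comap.2 (hP.1.1.mem_of_pow_mem j hcP)))
  · have : e = 0 := h.mul_left_cancel (by rw [mul_zero, sub_mul, one_mul, hee, sub_self])
    exact hcq (by rw [hce, this, mul_zero]; exact zero_mem _)

end Groth.Agent.BrnchLib
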