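import Groth.Agent.BrnchLib.DimOne

/-! Branches of dimension one of the completion, and one-dimensional local rings. -/

noncomputable section

namespace Groth.Agent.BrnchLib

universe u

open IsLocalRing TensorProduct

set_option linter.style.haveILetI false

variable {S T : Type u} [CommRing S] [CommRing T] [Algebra S T]

/-- A one-dimensional minimal prime is the radical of an extended minimal prime. -/
theorem radical_map_eq_of_dim_le_one [IsLocalRing S] [IsNoetherianRing S] [HenselianLocalRing S]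
    [IsLocalRing T] [IsNoetherianRing T] [hff : Module.FaithfullyFlat S T]
    (hm : (maximalIdeal S).map (algebraMap S T) = maximalIdeal T)
    (hd : ∀ (k : ℕ) (t : T), ∃ d : S, t - algebraMap S T d ∈ (maximalIdeal S ^ k).map (algebraMap S T))
    {q : Ideal T} (hq : q ∈ minimalPrimes T) (hdim : ringKrullDim (T ⧸ q) ≤ 1) :
    ((q.comap (algebraMap S T)).map (algebraMap S T)).radical = q := by
  haveI := hq.1.1
  set p := q.comap (algebraMap S T)
  haveI : p.IsPrime := Ideal.IsPrime.comap _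
  set J := p.map (algebraMap S T)
  have hJq : J ≤ q := Ideal.map_comap_le
  haveI : Nontrivial (T ⧸ J) := Ideal.Quotient.nontrivial_iff.2 fun h => hq.1.1.ne_top (top_le_iff.1 (h ▸ hJq))
  haveI : IsLocalRing (T ⧸ J) := IsLocalRing.of_surjective' (Ideal.Quotient.mk J) Ideal.Quotient.mk_surjective
  haveI : Nontrivial (S ⧸ p) := inferInstance
  haveI : IsLocalRing (S ⧸ p) := IsLocalRing.of_surjective' (Ideal.Quotient.mk p) Ideal.Quotient.mk_surjective
  haveI : HenselianLocalRing (S ⧸ p) := Hensel.henselianLocalRing_of_finite S (S ⧸ p)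
  let e := (Algebra.TensorProduct.quotIdealMapEquivQuotTensor T p).toLinearEquiv
  haveI : Module.Flat (S ⧸ p) (T ⧸ J) := Module.Flat.of_linearEquiv e
  have hcomm : ∀ s, algebraMap (S ⧸ p) (T ⧸ J) (Ideal.Quotient.mk p s) = Ideal.Quotient.mk J (algebraMap S T s) :=
    fun s => rfl
  have hmS : maximalIdeal (S ⧸ p) = (maximalIdeal S).map (Ideal.Quotient.mk p) :=
    (IsLocalRing.map_maximalIdeal_of_surjective _ Ideal.Quotient.mk_surjective).symm
  have hmT : maximalIdeal (T ⧸ J) = (maximalIdeal T).map (Ideal.Quotient.mk J) :=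
    (IsLocalRing.map_maximalIdeal_of_surjective _ Ideal.Quotient.mk_surjective).symm
  have hmap : ∀ I : Ideal S, (I.map (Ideal.Quotient.mk p)).map (algebraMap (S ⧸ p) (T ⧸ J)) =
      (I.map (algebraMap S T)).map (Ideal.Quotient.mk J) := fun I => by
    rw [Ideal.map_map, Ideal.map_map]
    exact congrArg (fun f => I.map f) (RingHom.ext hcomm)
  have hm' : (maximalIdeal (S ⧸ p)).map (algebraMap (S ⧸ p) (T ⧸ J)) = maximalIdeal (T ⧸ J) := by
    rw [hmS, hmap, hm, hmT]
  haveI : IsLocalHom (algebraMap (S ⧸ p) (T ⧸ J)) := ⟨fun x hx => by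
    by_contra h
    exact (notMem_maximalIdeal.2 hx) (hm' ▸ Ideal.mem_map_of_mem _ ((mem_maximalIdeal x).2 h))⟩
  haveI : Module.FaithfullyFlat (S ⧸ p) (T ⧸ J) := Module.FaithfullyFlat.of_flat_of_isLocalHom
  have hd' : ∀ (k : ℕ) (t : T ⧸ J), ∃ d : S ⧸ p,
      t - algebraMap (S ⧸ p) (T ⧸ J) d ∈ (maximalIdeal (S ⧸ p) ^ k).map (algebraMap (S ⧸ p) (T ⧸ J)) := fun k t => by
    obtain ⟨t, rfl⟩ := Ideal.Quotient.mk_surjective t
    obtain ⟨d, hd⟩ := hd k t
    refine ⟨Ideal.Quotient.mk p d, ?_⟩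
    rw [hmS, ← Ideal.map_pow, hmap, hcomm, ← map_sub]
    exact Ideal.mem_map_of_mem _ hd
  set q' := q.map (Ideal.Quotient.mk J)
  have hcq : q'.comap (Ideal.Quotient.mk J) = q := by
    rw [Ideal.comap_map_of_surjective _ Ideal.Quotient.mk_surjective, ← RingHom.ker_eq_comap_bot, Ideal.mk_ker,
      sup_of_le_left hJq]
  haveI : q'.IsPrime := Ideal.map_isPrime_of_surjective Ideal.Quotient.mk_surjective (by rwa [Ideal.mk_ker])
  have hq' : q' ∈ minimalPrimes (T ⧸ J) := ⟨⟨inferInstance, bot_le⟩, fun Q ⟨hQ, _⟩ hle => by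
    have h := hq.2 ⟨Ideal.IsPrime.comap (Ideal.Quotient.mk J) (hK := hQ), bot_le⟩ ((Ideal.comap_mono hle).trans hcq.le)
    rw [← Ideal.map_comap_of_surjective _ Ideal.Quotient.mk_surjective Q]
    exact Ideal.map_mono h⟩
  have hdim' : ringKrullDim ((T ⧸ J) ⧸ q') ≤ 1 := by
    rw [ringKrullDim_eq_of_ringEquiv (DoubleQuot.quotQuotEquivQuotOfLE hJq)]
    exact hdim
  have hsing := minimalPrimes_eq_singleton hm' hd' hq' hdim'
  refine le_antisymm ((hq.1.1.radical_le_iff).2 hJq) ?_
  have hnil : q' ≤ nilradical (T ⧸ J) := by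
    rw [nilradical, Ideal.zero_eq_bot, ← Ideal.sInf_minimalPrimes,
      show (⊥ : Ideal (T ⧸ J)).minimalPrimes = {q'} from hsing, sInf_singleton]
  intro x hx
  obtain ⟨n, hn⟩ := hnil (Ideal.mem_map_of_mem _ hx)
  exact ⟨n, Ideal.Quotient.eq_zero_iff_mem.1 ((map_pow _ _ _).trans hn)⟩

/-- If every branch of `T` has dimension at most one, `S` and `T` have the same number of branches. -/
theorem card_minimalPrimes_eq_of_dim_le_one [IsLocalRing S] [IsNoetherianRing S] [HenselianLocalRing S]
    [IsLocalRing T] [IsNoetherianRing T] [hff : Module.FaithfullyFlat S T]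
    (hm : (maximalIdeal S).map (algebraMap S T) = maximalIdeal T)
    (hd : ∀ (k : ℕ) (t : T), ∃ d : S, t - algebraMap S T d ∈ (maximalIdeal S ^ k).map (algebraMap S T))
    (hdim : ringKrullDim T ≤ 1) : ENat.card (minimalPrimes S) = ENat.card (minimalPrimes T) := by
  have hff' : letI := (algebraMap S T).toAlgebra; Module.FaithfullyFlat S T := by
    rw [show (algebraMap S T).toAlgebra = ‹Algebra S T› from Algebra.algebra_ext _ _ fun _ => rfl]
    exact hff
  refine (card_eq_iff_radical_prime (algebraMap S T) hff').2 fun p hp => ?_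
  obtain ⟨q, hq, hqp⟩ := surjOn_minimalPrimes (algebraMap S T) hff' hp
  rw [← hqp, radical_map_eq_of_dim_le_one hm hd hq ((ringKrullDim_quotient_le q).trans hdim)]
  exact hq.1.1

variable (A : Type u) [CommRing A] [IsLocalRing A] [IsNoetherianRing A]

theorem exists_sub_of_mem (k : ℕ) (t : AdicCompletion (maximalIdeal A) A) :
    ∃ a : A, t - algebraMap A (AdicCompletion (maximalIdeal A) A) a ∈
      (maximalIdeal A ^ k).map (algebraMap A (AdicCompletion (maximalIdeal A) A)) := by
  obtain ⟨a, ha⟩ := Submodule.Quotient.mk_surjective _ (t.val k)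
  refine ⟨a, (Groth.Agent.LocalCrit.smul_top_eq_map _ _).1 ?_⟩
  rw [AdicCompletion.pow_smul_top_eq_ker_eval (IsNoetherian.noetherian _), LinearMap.mem_ker]
  change (t - algebraMap A (AdicCompletion (maximalIdeal A) A) a).val k = 0
  rw [AdicCompletion.val_sub_apply, sub_eq_zero, ← ha]
  rfl

section

variable (S : Type u) [CommRing S] [IsLocalRing S] [Algebra A S] [IsLocalHom (algebraMap A S)]
  [_root_.Hensel.IsHenselization A S]
  (ψ : S →+* AdicCompletion (maximalIdeal A) A)
  (hψ : ψ.comp (algebraMap A S) = algebraMap A (AdicCompletion (maximalIdeal A) A))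

include hψ

theorem map_psi_maximalIdeal : (maximalIdeal S).map ψ = maximalIdeal (AdicCompletion (maximalIdeal A) A) := by
  rw [← Groth.Agent.Hensel.map_maximalIdeal_of_isHenselization A S, Ideal.map_map, hψ,
    AdicCompletion.maximalIdeal_eq_map]

theorem psi_dense (k : ℕ) (t : AdicCompletion (maximalIdeal A) A) :
    ∃ d : S, t - ψ d ∈ (maximalIdeal S ^ k).map ψ := by
  obtain ⟨a, ha⟩ := exists_sub_of_mem A k t
  refine ⟨algebraMap A S a, ?_⟩
  rw [← RingHom.comp_apply, hψ, ← Groth.Agent.Hensel.map_maximalIdeal_of_isHenselization A S, ← Ideal.map_pow,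
    Ideal.map_map, hψ]
  exact ha

end

end Groth.Agent.BrnchLib
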