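import Groth.Agent.AlgSpDec.EtHenzField
import Groth.Agent.Hensel.Colim
import Groth.Agent.DescLib.EtaleFlat
import Mathlib.RingTheory.Flat.FaithfullyFlat.Algebra
import Mathlib.RingTheory.Ideal.GoingDown
import Mathlib.RingTheory.Ideal.MinimalPrime.Basic

/-!
# Minimal primes of a colimit of étale neighbourhoods

The minimal primes of `Henz A K` are counted by the minimal primes below the chosen point in the étale
neighbourhoods `(B, τ : B → K)`.
-/

set_option autoImplicit false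
set_option backward.isDefEq.respectTransparency false
set_option backward.isDefEq.respectTransparency.types false

universe u

namespace Groth.Agent.BrnchLib

open IsLocalRing Groth.Agent.Hensel Groth.Agent.AlgSpDec

variable {A K : Type u} [CommRing A] [Field K] [Algebra A K]

theorem encard_le_of_point (B : Type u) [CommRing B] [Algebra A B] [Algebra.Etale A B] (τ : B →ₐ[A] K) :
    {P | P ∈ minimalPrimes B ∧ P ≤ RingHom.ker τ}.encard ≤ (minimalPrimes (Henz A K)).encard := by
  let f := Henz.ofNbhd B τ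
  letI : Algebra B (Henz A K) := f.toRingHom.toAlgebra
  haveI : IsScalarTower A B (Henz A K) := IsScalarTower.of_algebraMap_eq fun a => (f.commutes a).symm
  haveI : Module.Flat B (Henz A K) := Groth.Agent.DescLib.flat_over_unramified A B (Henz A K)
  suffices h : {P | P ∈ minimalPrimes B ∧ P ≤ RingHom.ker τ} ⊆
      Ideal.comap (algebraMap B (Henz A K)) '' minimalPrimes (Henz A K) from
    (Set.encard_le_encard h).trans (Set.encard_image_le _ _)
  rintro P ⟨hP, hPτ⟩
  haveI := hP.1.1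
  have hmax : (maximalIdeal (Henz A K)).comap (algebraMap B (Henz A K)) = RingHom.ker τ := by
    ext b
    rw [Ideal.mem_comap, EtHenz.maximalIdeal_eq, RingHom.mem_ker, RingHom.mem_ker]
    exact Iff.of_eq (congrArg (· = 0) (Henz.proj_ofNbhd B τ b))
  haveI : (RingHom.ker τ).IsPrime := RingHom.ker_isPrime _
  haveI : (maximalIdeal (Henz A K)).LiesOver (RingHom.ker τ) := ⟨hmax.symm⟩
  obtain ⟨Q, -, hQ, ho⟩ := Ideal.exists_ideal_le_liesOver_of_le (p := P) (q := RingHom.ker τ)
    (maximalIdeal (Henz A K)) hPτ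
  haveI := hQ
  obtain ⟨Q₀, hQ₀, hle⟩ := Ideal.exists_minimalPrimes_le (I := (⊥ : Ideal (Henz A K))) (J := Q) bot_le
  haveI := hQ₀.1.1
  have hc : Q₀.comap (algebraMap B (Henz A K)) ≤ P := (Ideal.comap_mono hle).trans ho.over.ge
  exact ⟨Q₀, hQ₀, le_antisymm hc (hP.2 ⟨Ideal.IsPrime.comap _, bot_le⟩ hc)⟩

/-- Finitely many minimal primes stay distinct in one neighbourhood. -/
theorem exists_point_card_le (t : Finset (Ideal (Henz A K))) (ht : ↑t ⊆ minimalPrimes (Henz A K)) :
    ∃ (B : Type u) (_ : CommRing B) (_ : Algebra A B) (_ : Algebra.Etale A B) (τ : B →ₐ[A] K),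
      (t.card : ℕ∞) ≤ {P | P ∈ minimalPrimes B ∧ P ≤ RingHom.ker τ}.encard := by
  classical
  let D := (t ×ˢ t).filter fun x => ¬ x.1 ≤ x.2
  have hsep : ∀ x : D, ∃ z, z ∈ x.1.1 ∧ z ∉ x.1.2 := fun x =>
    SetLike.not_le_iff_exists.1 (Finset.mem_filter.1 x.2).2
  choose z hz₁ hz₂ using hsep
  obtain ⟨N, -, hN⟩ := Henz.exists_of_finset (Classical.arbitrary (Nbhd A K)) (Finset.univ.image z)
  let β : N.B →ₐ[A] Henz A K := Henz.ofB N
  have hβu : ∀ s : N.S, IsUnit (β s) := fun s => Henz.isUnit_ofB s.2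
  letI : Algebra N.B (Henz A K) := β.toRingHom.toAlgebra
  haveI : IsScalarTower A N.B (Henz A K) := IsScalarTower.of_algebraMap_eq fun a => (β.commutes a).symm
  haveI : Module.Flat N.B (Henz A K) := Groth.Agent.DescLib.flat_over_unramified A N.B (Henz A K)
  refine ⟨N.B, inferInstance, inferInstance, inferInstance, N.toK, ?_⟩
  let f : Ideal (Henz A K) → Ideal N.B := fun I => I.comap (algebraMap N.B (Henz A K))
  have hf : ∀ I ∈ t, f I ∈ minimalPrimes N.B ∧ f I ≤ RingHom.ker N.toK := fun I hI => by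
    haveI := (ht hI).1.1
    refine ⟨⟨⟨Ideal.IsPrime.comap _, bot_le⟩, fun q ⟨hq, _⟩ hle => ?_⟩, fun b hb => ?_⟩
    · haveI := hq
      haveI : (f I).IsPrime := Ideal.IsPrime.comap _
      haveI : I.LiesOver (f I) := ⟨rfl⟩
      obtain ⟨I', hI'le, hI', ho⟩ := Ideal.exists_ideal_le_liesOver_of_le (p := q) (q := f I) I hle
      rw [ho.over]
      exact Ideal.comap_mono ((ht hI).2 ⟨hI', bot_le⟩ hI'le)
    · by_contra hne
      exact (ht hI).1.1.ne_top (Ideal.eq_top_of_isUnit_mem _ hb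
        (hβu ⟨b, isUnit_iff_ne_zero.2 (by simpa [RingHom.mem_ker] using hne)⟩))
  have hinj : ∀ I ∈ t, ∀ J ∈ t, f I = f J → I ≤ J := fun I hI J hJ h => by
    by_contra hne
    let x : D := ⟨(I, J), Finset.mem_filter.2 ⟨Finset.mem_product.2 ⟨hI, hJ⟩, hne⟩⟩
    obtain ⟨y, hy⟩ := hN _ (Finset.mem_image.2 ⟨x, Finset.mem_univ _, rfl⟩)
    obtain ⟨⟨b, s⟩, hbs⟩ := IsLocalization.surj N.S y
    have hb : β b = z x * β s := by
      show Henz.of N (algebraMap N.B N.Stage b) = _ * Henz.of N (algebraMap N.B N.Stage s)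
      rw [← hbs, map_mul, hy]
    refine hz₂ x ?_
    have h1 : b ∈ f I := show β b ∈ I from hb ▸ Ideal.mul_mem_right _ _ (hz₁ x)
    rw [h] at h1
    have h2 : z x * β s ∈ J := hb ▸ h1
    exact ((ht hJ).1.1.mem_or_mem h2).resolve_right fun h3 =>
      (ht hJ).1.1.ne_top (Ideal.eq_top_of_isUnit_mem _ h3 (hβu s))
  calc (t.card : ℕ∞) = ((f '' ↑t) : Set (Ideal N.B)).encard := by
        rw [Set.InjOn.encard_image fun I hI J hJ h => le_antisymm (hinj I hI J hJ h) (hinj J hJ I hI h.symm),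
          Set.encard_coe_eq_coe_finsetCard]
    _ ≤ _ := Set.encard_le_encard fun J ⟨I, hI, hIJ⟩ => hIJ ▸ hf I hI

end Groth.Agent.BrnchLib
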