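import Groth.Agent.BrnchLib.NbhdScheme
import Groth.Agent.BrnchLib.NbhdCountIdeal
import Groth.Agent.BrnchLib.HenzQuot
import Groth.Agent.FlatDvr.FibreStalk
import Groth.Agent.S9501
import Groth.Agent.Hensel.NbhdPoints

/-!
# Branches of a fibre through étale neighbourhoods of the total space
-/

set_option autoImplicit false
set_option maxHeartbeats 1600000
set_option synthInstance.maxHeartbeats 200000
set_option backward.isDefEq.respectTransparency false
set_option backward.isDefEq.respectTransparency.types false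

universe u

open CategoryTheory AlgebraicGeometry IsLocalRing Groth.Agent.Hensel

namespace Groth.Agent.BrnchLib

/-- Minimal primes over an ideal of a localisation at a prime. -/
theorem encard_localization_ideal (B O : Type u) [CommRing B] [CommRing O] [Algebra B O] (q : Ideal B) [q.IsPrime]
    [IsLocalization.AtPrime O q] (L : Ideal B) :
    (L.map (algebraMap B O)).minimalPrimes.encard = {P | P ∈ L.minimalPrimes ∧ P ≤ q}.encard := by
  have hdis : ∀ P : Ideal B, P ≤ q → Disjoint (q.primeCompl : Set B) (P : Set B) :=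
    fun P hP => Set.disjoint_left.2 fun c hc hcP => hc (hP hcP)
  have h : Ideal.comap (algebraMap B O) '' (L.map (algebraMap B O)).minimalPrimes =
      {P | P ∈ L.minimalPrimes ∧ P ≤ q} := by
    ext P
    constructor
    · rintro ⟨Q, hQ, rfl⟩
      haveI := hQ.1.1
      have hle : Q.comap (algebraMap B O) ≤ q := fun b hb => by
        by_contra hbq
        exact hQ.1.1.ne_top (Ideal.eq_top_of_isUnit_mem _ hb (IsLocalization.map_units O (⟨b, hbq⟩ : q.primeCompl)))
      refine ⟨⟨⟨Ideal.IsPrime.comap _, Ideal.map_le_iff_le_comap.1 hQ.1.2⟩, fun p ⟨hp, hLp⟩ hpQ => ?_⟩, hle⟩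
      have h := hQ.2 ⟨IsLocalization.isPrime_of_isPrime_disjoint q.primeCompl O p hp (hdis p (hpQ.trans hle)),
        Ideal.map_mono hLp⟩ (Ideal.map_le_iff_le_comap.2 hpQ)
      exact (Ideal.comap_mono h).trans
        (IsLocalization.comap_map_of_isPrime_disjoint q.primeCompl O hp (hdis p (hpQ.trans hle))).le
    · rintro ⟨hP, hPq⟩
      have hc := IsLocalization.comap_map_of_isPrime_disjoint q.primeCompl O hP.1.1 (hdis P hPq)
      refine ⟨P.map (algebraMap B O), ⟨⟨IsLocalization.isPrime_of_isPrime_disjoint q.primeCompl O P hP.1.1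
        (hdis P hPq), Ideal.map_mono hP.1.2⟩, fun Q ⟨hQ, hLQ⟩ hle => ?_⟩, hc⟩
      haveI := hQ
      exact (Ideal.map_mono (hP.2 ⟨Ideal.IsPrime.comap _, Ideal.map_le_iff_le_comap.1 hLQ⟩
        ((Ideal.comap_mono hle).trans hc.le))).trans Ideal.map_comap_le
  rw [← h]
  refine (Set.InjOn.encard_image fun P _ Q _ e => ?_).symm
  rw [← IsLocalization.map_comap q.primeCompl O P, ← IsLocalization.map_comap q.primeCompl O Q]
  exact congrArg _ e

variable {X S : Scheme.{u}} (f : X ⟶ S)

/-- The ideal of the fibre in the local ring. -/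
noncomputable def fibreIdeal (x : X) : Ideal (X.presheaf.stalk x) :=
  (maximalIdeal (S.presheaf.stalk (f x))).map (f.stalkMap x).hom

theorem fibreIdeal_comp {U : Scheme.{u}} (g : U ⟶ X) (u : U) :
    fibreIdeal (g ≫ f) u = (fibreIdeal f (g u)).map (g.stalkMap u).hom := by
  rw [fibreIdeal, fibreIdeal, Ideal.map_map, Scheme.Hom.stalkMap_comp]
  rfl

/-- Components of a fibre through a point are the minimal primes over the ideal of the fibre. -/
theorem encard_fibre_components {y : S} (x : X) (hxy : f x = y) :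
    {Z : Set ↥(f.fiber y) | Z ∈ irreducibleComponents ↥(f.fiber y) ∧ ∃ w ∈ Z, f.fiberι y w = x}.encard =
      (fibreIdeal f x).minimalPrimes.encard := by
  obtain ⟨w, rfl⟩ : ∃ w, f.fiberι y w = x := by
    have : x ∈ Set.range (f.fiberι y) := by rw [Scheme.Hom.range_fiberι]; exact hxy
    exact this
  rw [show {Z : Set ↥(f.fiber y) | Z ∈ irreducibleComponents ↥(f.fiber y) ∧
      ∃ w' ∈ Z, f.fiberι y w' = f.fiberι y w} =
      {Z : Set ↥(f.fiber y) | Z ∈ irreducibleComponents ↥(f.fiber y) ∧ w ∈ Z} from Set.ext fun Z =>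
    and_congr_right fun _ => ⟨fun ⟨w', hw', e⟩ => (f.fiberι y).isEmbedding.injective e ▸ hw',
      fun h => ⟨w, h, rfl⟩⟩, AlgSpElem.encard_components]
  obtain ⟨hs, hk⟩ := Groth.Agent.S9501.result f y w
  have hI : fibreIdeal f (f.fiberι y w) = RingHom.ker ((f.fiberι y).stalkMap w).hom := hk.symm
  rw [hI, show RingHom.ker ((f.fiberι y).stalkMap w).hom = (⊥ : Ideal _).comap ((f.fiberι y).stalkMap w).hom from
    RingHom.ker_eq_comap_bot _, Ideal.comap_minimalPrimes_eq_of_surjective hs]
  exact ((Ideal.comap_injective_of_surjective _ hs).injOn.encard_image).symm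

/-- The minimal primes of a chart below a point inject into those of the local ring. -/
theorem encard_le_fibreIdeal_chart {x : X} {W : X.Opens} (hW : IsAffineOpen W) (hxW : x ∈ W)
    (B : Type u) [CommRing B] [Algebra Γ(X, W) B] (v : Spec (CommRingCat.of B))
    (hv : (Spec.map (CommRingCat.ofHom (algebraMap Γ(X, W) B)) ≫ hW.fromSpec) v = x) :
    let J := (fibreIdeal f x).comap (X.presheaf.germ W x hxW).hom
    {P | P ∈ (J.map (algebraMap Γ(X, W) B)).minimalPrimes ∧ P ≤ v.asIdeal}.encard ≤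
      (fibreIdeal ((Spec.map (CommRingCat.ofHom (algebraMap Γ(X, W) B)) ≫ hW.fromSpec) ≫ f) v).minimalPrimes.encard := by
  intro J
  set q := Spec.map (CommRingCat.ofHom (algebraMap Γ(X, W) B)) ≫ hW.fromSpec
  subst hv
  let O' := (Spec (CommRingCat.of B)).presheaf.stalk v
  letI : Algebra B O' := StructureSheaf.stalkAlgebra B v
  haveI : IsLocalization.AtPrime O' v.asIdeal := StructureSheaf.IsLocalization.to_stalk B v
  rw [← encard_localization_ideal B O' v.asIdeal, fibreIdeal_comp]
  refine le_of_eq ?_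
  have hsq : X.presheaf.germ W (q v) hxW ≫ q.stalkMap v =
      CommRingCat.ofHom (algebraMap Γ(X, W) B) ≫ CommRingCat.ofHom (algebraMap B O') := by
    apply Spec.map_injective
    rw [← cancel_mono hW.fromSpec, Spec.map_comp, Spec.map_comp, Category.assoc, Category.assoc]
    have h1 : Spec.map (q.stalkMap v) ≫ X.fromSpecStalk (q v) = (Spec (CommRingCat.of B)).fromSpecStalk v ≫ q :=
      Scheme.SpecMap_stalkMap_fromSpecStalk q
    rw [← hW.fromSpecStalk_eq_fromSpecStalk hxW, IsAffineOpen.fromSpecStalk] at h1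
    rw [h1, Spec.fromSpecStalk_eq]
    rfl
  let _ : Algebra Γ(X, W) (X.presheaf.stalk (q v)) := (X.presheaf.germ W (q v) hxW).hom.toAlgebra
  haveI : IsLocalization.AtPrime (X.presheaf.stalk (q v)) (hW.primeIdealOf ⟨q v, hxW⟩).asIdeal :=
    hW.isLocalization_stalk ⟨q v, hxW⟩
  have hJ : J.map (X.presheaf.germ W (q v) hxW).hom = fibreIdeal f (q v) :=
    IsLocalization.map_comap (hW.primeIdealOf ⟨q v, hxW⟩).asIdeal.primeCompl (X.presheaf.stalk (q v)) (fibreIdeal f (q v))
  rw [← hJ, Ideal.map_map, Ideal.map_map]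
  exact congrArg (fun h => (J.map h).minimalPrimes.encard) (congrArg CommRingCat.Hom.hom hsq).symm

theorem numGeomBranchesAt_fibre_eq_iSup_aux {y : S} (x : X) (hy : f x = y) (A' : Type u) [CommRing A'] [IsLocalRing A']
    (π : X.presheaf.stalk x →+* A') (hs : Function.Surjective π) (hπ : RingHom.ker π = fibreIdeal f x) :
    Brnch.numGeomBranches A' = ⨆ (U : Scheme.{u}) (g : U ⟶ X) (u : U) (_ : Etale g ∧ g u = x),
      {Z : Set ↑((g ≫ f).fiber y) | Z ∈ irreducibleComponents ↑((g ≫ f).fiber y) ∧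
        ∃ u' ∈ Z, (g ≫ f).fiberι y u' = u}.encard := by
  let κ := ResidueField (X.presheaf.stalk x)
  let Ω := AlgebraicClosure κ
  haveI : IsLocalHom (algebraMap (X.presheaf.stalk x) Ω) := ⟨fun r hr => by
    by_contra h
    rw [IsScalarTower.algebraMap_apply (X.presheaf.stalk x) κ Ω, IsLocalRing.ResidueField.algebraMap_eq,
      (residue_eq_zero_iff r).2 h, map_zero] at hr
    exact not_isUnit_zero hr⟩
  refine le_antisymm ?_ (iSup_le fun U => iSup_le fun g => iSup_le fun u => iSup_le fun ⟨he, hgu⟩ => ?_)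
  · obtain ⟨W, hW, hxW, -⟩ := exists_isAffineOpen_mem_and_subset (X := X) (x := x) (U := ⊤) trivial
    letI := TopCat.Presheaf.algebra_section_stalk X.presheaf (⟨x, hxW⟩ : W)
    haveI := hW.isLocalization_stalk ⟨x, hxW⟩
    haveI : IsScalarTower Γ(X, W) (X.presheaf.stalk x) Ω := inferInstance
    letI := (AlgSpDec.EtHenz.fromLocal Γ(X, W) (X.presheaf.stalk x) Ω
      (hW.primeIdealOf ⟨x, hxW⟩).asIdeal.primeCompl).toRingHom.toAlgebra
    obtain ⟨_, _⟩ := AlgSpDec.EtHenz.isStrictHenselization Γ(X, W) (X.presheaf.stalk x) Ω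
      (hW.primeIdealOf ⟨x, hxW⟩).asIdeal.primeCompl
    rw [← card_minimalPrimes_over_ker_strict π hs (Henz Γ(X, W) Ω), hπ]
    set J := (fibreIdeal f x).comap (X.presheaf.germ W x hxW).hom with hJdef
    have hJ : (fibreIdeal f x).map (algebraMap (X.presheaf.stalk x) (Henz Γ(X, W) Ω)) =
        J.map (algebraMap Γ(X, W) (Henz Γ(X, W) Ω)) := by
      conv_lhs => rw [← IsLocalization.map_comap (hW.primeIdealOf ⟨x, hxW⟩).asIdeal.primeCompl
        (X.presheaf.stalk x) (fibreIdeal f x), Ideal.map_map]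
      exact congrArg (J.map ·) (RingHom.ext fun a => (AlgSpDec.EtHenz.fromLocal Γ(X, W) (X.presheaf.stalk x) Ω
        (hW.primeIdealOf ⟨x, hxW⟩).asIdeal.primeCompl).commutes a)
    rw [hJ]
    refine ENat.forall_natCast_le_iff_le.1 fun n hn => ?_
    obtain ⟨t, ht, hcard⟩ := Set.exists_subset_encard_eq hn
    have hfin : t.Finite := Set.finite_of_encard_eq_coe hcard
    rw [← hcard, hfin.encard_eq_coe_toFinset_card]
    obtain ⟨B, _, _, _, τ, hτ⟩ := exists_point_card_le_ideal J hfin.toFinset (by simpa using ht)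
    let q : Spec (CommRingCat.of B) ⟶ X :=
      Spec.map (CommRingCat.ofHom (algebraMap Γ(X, W) B)) ≫ hW.fromSpec
    have hq : Etale q := exists_etale_of_point hW B
    haveI : (RingHom.ker τ).IsPrime := RingHom.ker_isPrime _
    let v : Spec (CommRingCat.of B) := ⟨RingHom.ker τ, inferInstance⟩
    have hv : q v = x := by
      refine Eq.trans ?_ (hW.fromSpec_primeIdealOf ⟨x, hxW⟩)
      show hW.fromSpec (Spec.map (CommRingCat.ofHom (algebraMap Γ(X, W) B)) v) = _
      congr 1
      refine PrimeSpectrum.ext (Ideal.ext fun a => ?_)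
      show τ (algebraMap Γ(X, W) B a) = 0 ↔ _
      rw [AlgHom.commutes, IsScalarTower.algebraMap_apply Γ(X, W) (X.presheaf.stalk x) Ω,
        IsScalarTower.algebraMap_apply (X.presheaf.stalk x) κ Ω, map_eq_zero, IsLocalRing.ResidueField.algebraMap_eq,
        residue_eq_zero_iff, ← IsLocalization.AtPrime.to_map_mem_maximal_iff (X.presheaf.stalk x)
          (hW.primeIdealOf ⟨x, hxW⟩).asIdeal]
    refine hτ.trans (le_trans ?_ (le_iSup_of_le _ (le_iSup_of_le q (le_iSup_of_le v
      (le_iSup_of_le (⟨hq, hv⟩ : Etale q ∧ q v = x) le_rfl)))))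
    rw [encard_fibre_components (q ≫ f) v ((congrArg f hv).trans hy)]
    exact encard_le_fibreIdeal_chart f hW hxW B v hv
  · haveI := he
    rw [encard_fibre_components (g ≫ f) u ((congrArg f hgu).trans hy), fibreIdeal_comp]
    subst hgu
    haveI : Etale ((⊤ : U.Opens).ι ≫ g) := inferInstance
    obtain ⟨W, hW, V, hV, hVW, huV, -, hE⟩ := UnibEtale.exists_etale_chart g u ⊤ trivial
    have hxW : g u ∈ W := hVW huV
    algebraize [(g.appLE W V hVW).hom]
    haveI : Algebra.Etale Γ(X, W) Γ(U, V) := hE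
    let O := X.presheaf.stalk (g u)
    let O' := U.presheaf.stalk u
    letI := TopCat.Presheaf.algebra_section_stalk X.presheaf (⟨g u, hxW⟩ : W)
    haveI := hW.isLocalization_stalk ⟨g u, hxW⟩
    letI := TopCat.Presheaf.algebra_section_stalk U.presheaf (⟨u, huV⟩ : V)
    haveI := hV.isLocalization_stalk ⟨u, huV⟩
    haveI : IsScalarTower Γ(X, W) O Ω := inferInstance
    letI := (AlgSpDec.EtHenz.fromLocal Γ(X, W) O Ω
      (hW.primeIdealOf ⟨g u, hxW⟩).asIdeal.primeCompl).toRingHom.toAlgebra
    obtain ⟨_, _⟩ := AlgSpDec.EtHenz.isStrictHenselization Γ(X, W) O Ω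
      (hW.primeIdealOf ⟨g u, hxW⟩).asIdeal.primeCompl
    rw [← card_minimalPrimes_over_ker_strict π hs (Henz Γ(X, W) Ω), hπ]
    set J := (fibreIdeal f (g u)).comap (algebraMap Γ(X, W) O)
    have hJO : J.map (algebraMap Γ(X, W) O) = fibreIdeal f (g u) :=
      IsLocalization.map_comap (hW.primeIdealOf ⟨g u, hxW⟩).asIdeal.primeCompl O (fibreIdeal f (g u))
    have hsq : ((g.stalkMap u).hom).comp (algebraMap Γ(X, W) O) =
        (algebraMap Γ(U, V) O').comp (algebraMap Γ(X, W) Γ(U, V)) := RingHom.ext fun a => by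
      show (g.stalkMap u) (X.presheaf.germ W (g u) hxW a) = U.presheaf.germ V u huV ((g.appLE W V hVW) a)
      rw [Scheme.Hom.germ_stalkMap_apply, Scheme.Hom.appLE]
      exact (U.presheaf.germ_res_apply (homOfLE hVW) u huV _).symm
    letI : Algebra κ (ResidueField O') := (ResidueField.map (g.stalkMap u).hom).toAlgebra
    haveI : Module.Finite κ (ResidueField O') := Groth.Agent.MorLib.GF.finite_residueFieldMap g u
    haveI : Algebra.IsAlgebraic κ (ResidueField O') := Algebra.IsAlgebraic.of_finite κ _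
    let j : ResidueField O' →ₐ[κ] Ω := IsAlgClosed.lift
    let τ : Γ(U, V) →ₐ[Γ(X, W)] Ω :=
      { j.toRingHom.comp ((residue O').comp (algebraMap Γ(U, V) O')) with
        commutes' := fun a => by
          show j (residue O' (algebraMap Γ(U, V) O' (algebraMap Γ(X, W) Γ(U, V) a))) = _
          rw [show algebraMap Γ(U, V) O' (algebraMap Γ(X, W) Γ(U, V) a) = (g.stalkMap u) (algebraMap Γ(X, W) O a)
            from (RingHom.congr_fun hsq a).symm]
          exact j.commutes (residue O (algebraMap Γ(X, W) O a)) }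
    conv_lhs => rw [← hJO, Ideal.map_map]
    rw [show ((g.stalkMap u).hom).comp (algebraMap Γ(X, W) O) = _ from hsq, ← Ideal.map_map,
      encard_localization_ideal Γ(U, V) O' (hV.primeIdealOf ⟨u, huV⟩).asIdeal]
    refine le_trans (le_of_eq ?_) ((encard_le_of_point_ideal J Γ(U, V) τ).trans (le_of_eq ?_))
    · congr 1
      ext P
      refine and_congr_right fun _ => Iff.of_eq (congrArg (P ≤ ·) (Ideal.ext fun b => ?_))
      show _ ↔ j (residue O' (algebraMap Γ(U, V) O' b)) = 0
      rw [map_eq_zero, residue_eq_zero_iff, IsLocalization.AtPrime.to_map_mem_maximal_iff O'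
        (hV.primeIdealOf ⟨u, huV⟩).asIdeal]
    · rw [← hJO, Ideal.map_map]
      exact congrArg (fun h => (J.map h).minimalPrimes.encard) (RingHom.ext fun a =>
        ((AlgSpDec.EtHenz.fromLocal Γ(X, W) O Ω
          (hW.primeIdealOf ⟨g u, hxW⟩).asIdeal.primeCompl).commutes a).symm)

/-- Geometric branches of a fibre through étale neighbourhoods. -/
theorem numGeomBranchesAt_fibre_eq_iSup (x : X) :
    Brnch.numGeomBranchesAt (f.fiber (f x)) (f.asFiber x) =
      ⨆ (U : Scheme.{u}) (g : U ⟶ X) (u : U) (_ : Etale g ∧ g u = x),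
      {Z : Set ↑((g ≫ f).fiber (f x)) | Z ∈ irreducibleComponents ↑((g ≫ f).fiber (f x)) ∧
        ∃ u' ∈ Z, (g ≫ f).fiberι (f x) u' = u}.encard := by
  suffices hw : ∀ (y : S) (w : ↥(f.fiber y)), f.fiberι y w = x → Brnch.numGeomBranchesAt (f.fiber y) w =
      ⨆ (U : Scheme.{u}) (g : U ⟶ X) (u : U) (_ : Etale g ∧ g u = x),
      {Z : Set ↑((g ≫ f).fiber y) | Z ∈ irreducibleComponents ↑((g ≫ f).fiber y) ∧
        ∃ u' ∈ Z, (g ≫ f).fiberι y u' = u}.encard from hw _ _ (f.fiberι_asFiber x)
  intro y w hwx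
  subst hwx
  obtain ⟨hs, hk⟩ := Groth.Agent.S9501.result f y w
  exact numGeomBranchesAt_fibre_eq_iSup_aux f (f.fiberι y w) (FlatDvr.fiberι_apply_eq f w) _ ((f.fiberι y).stalkMap w).hom hs hk

theorem numBranchesAt_fibre_eq_iSup_aux {y : S} (x : X) (hy : f x = y) (A' : Type u) [CommRing A'] [IsLocalRing A']
    (π : X.presheaf.stalk x →+* A') (hs : Function.Surjective π) (hπ : RingHom.ker π = fibreIdeal f x) :
    Brnch.numBranches A' = ⨆ (U : Scheme.{u}) (g : U ⟶ X) (u : U) (_ : Hens2.IsEtaleNbhd g u x),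
      {Z : Set ↑((g ≫ f).fiber y) | Z ∈ irreducibleComponents ↑((g ≫ f).fiber y) ∧
        ∃ u' ∈ Z, (g ≫ f).fiberι y u' = u}.encard := by
  refine le_antisymm ?_ (iSup_le fun U => iSup_le fun g => iSup_le fun u => iSup_le fun h => ?_)
  · obtain ⟨W, hW, hxW, -⟩ := exists_isAffineOpen_mem_and_subset (X := X) (x := x) (U := ⊤) trivial
    letI := TopCat.Presheaf.algebra_section_stalk X.presheaf (⟨x, hxW⟩ : W)
    haveI := hW.isLocalization_stalk ⟨x, hxW⟩
    set p := (hW.primeIdealOf ⟨x, hxW⟩).asIdeal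
    let e : Localization.AtPrime p ≃ₐ[Γ(X, W)] X.presheaf.stalk x := IsLocalization.algEquiv p.primeCompl _ _
    let Rh := LocalHenz (Localization.AtPrime p)
    letI : Algebra Γ(X, W) Rh :=
      ((algebraMap (Localization.AtPrime p) Rh).comp (algebraMap Γ(X, W) (Localization.AtPrime p))).toAlgebra
    haveI : IsScalarTower Γ(X, W) (Localization.AtPrime p) Rh := IsScalarTower.of_algebraMap_eq fun _ => rfl
    obtain ⟨eH, -⟩ := Groth.Agent.Hensel.exists_algEquiv_henz_residueField Γ(X, W) p Rh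
    rw [← card_minimalPrimes_over_ker (π.comp e.toRingEquiv.toRingHom)
      (hs.comp e.surjective) Rh]
    set J := (fibreIdeal f x).comap (X.presheaf.germ W x hxW).hom
    have hK : (RingHom.ker (π.comp e.toRingEquiv.toRingHom)).map (algebraMap (Localization.AtPrime p) Rh) =
        (J.map (algebraMap Γ(X, W) (Henz Γ(X, W) p.ResidueField))).map (eH.toRingEquiv : _ →+* Rh) := by
      rw [Ideal.map_map, ← IsLocalization.map_comap p.primeCompl (Localization.AtPrime p)
        (RingHom.ker (π.comp e.toRingEquiv.toRingHom)), Ideal.map_map]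
      rw [show (eH.toRingEquiv : _ →+* Rh).comp (algebraMap Γ(X, W) (Henz Γ(X, W) p.ResidueField)) =
        algebraMap Γ(X, W) Rh from RingHom.ext fun a => eH.commutes a, ← IsScalarTower.algebraMap_eq]
      congr 1
      ext a
      show π (e (algebraMap Γ(X, W) (Localization.AtPrime p) a)) = 0 ↔
        algebraMap Γ(X, W) (X.presheaf.stalk x) a ∈ fibreIdeal f x
      rw [AlgEquiv.commutes, ← hπ, RingHom.mem_ker]
    rw [hK, encard_minimalPrimes_map_equiv]
    refine ENat.forall_natCast_le_iff_le.1 fun n hn => ?_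
    obtain ⟨t, ht, hcard⟩ := Set.exists_subset_encard_eq hn
    have hfin : t.Finite := Set.finite_of_encard_eq_coe hcard
    rw [← hcard, hfin.encard_eq_coe_toFinset_card]
    obtain ⟨B, _, _, _, τ, hτ⟩ := exists_point_card_le_ideal J hfin.toFinset (by simpa using ht)
    let q : Spec (CommRingCat.of B) ⟶ X :=
      Spec.map (CommRingCat.ofHom (algebraMap Γ(X, W) B)) ≫ hW.fromSpec
    have hq : Etale q := exists_etale_of_point hW B
    -- the point with values in the residue field of `x`
    let θ : p.ResidueField →+* ResidueField (X.presheaf.stalk x) :=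
      (ResidueField.mapEquiv e.toRingEquiv : ResidueField (Localization.AtPrime p) ≃+* _).toRingHom
    have hθ : ∀ a, θ (algebraMap Γ(X, W) p.ResidueField a) =
        residue _ (algebraMap Γ(X, W) (X.presheaf.stalk x) a) := fun a => by
      rw [IsScalarTower.algebraMap_apply Γ(X, W) (Localization.AtPrime p) p.ResidueField]
      show residue _ (e (algebraMap Γ(X, W) (Localization.AtPrime p) a)) = _
      rw [AlgEquiv.commutes]
    let τ' : B →ₐ[Γ(X, W)] ResidueField (X.presheaf.stalk x) :=
      { θ.comp τ.toRingHom with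
        commutes' := fun a => by
          show θ (τ (algebraMap Γ(X, W) B a)) = _
          rw [AlgHom.commutes, hθ]
          rfl }
    have hc : Spec.map (CommRingCat.ofHom τ'.toRingHom) ≫ q = X.fromSpecResidueField x := by
      rw [← Category.assoc, ← Spec.map_comp, Scheme.fromSpecResidueField,
        ← hW.fromSpecStalk_eq_fromSpecStalk hxW, IsAffineOpen.fromSpecStalk, ← Category.assoc, ← Spec.map_comp]
      congr 2
      exact CommRingCat.hom_ext τ'.comp_algebraMap
    obtain ⟨v, hv, hvm, hb⟩ := exists_bijective_of_section (x := x) (K := ResidueField (X.presheaf.stalk x)) q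
      (𝟙 (X.residueField x)) (Spec.map (CommRingCat.ofHom τ'.toRingHom))
      (hc.trans (by rw [Spec.map_id]; exact (Category.id_comp _).symm))
    refine hτ.trans (le_trans ?_ (le_iSup_of_le _ (le_iSup_of_le q (le_iSup_of_le v
      (le_iSup_of_le (⟨hq, hv, hb⟩ : Hens2.IsEtaleNbhd q v x) le_rfl)))))
    rw [encard_fibre_components (q ≫ f) v ((congrArg f hv).trans hy)]
    have hker : RingHom.ker τ = v.asIdeal := by
      rw [← hvm]
      ext b
      show τ b = 0 ↔ θ (τ b) ∈ maximalIdeal (X.residueField x)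
      rw [IsLocalRing.maximalIdeal_eq_bot, Ideal.mem_bot]
      exact (map_eq_zero θ).symm
    rw [hker]
    exact encard_le_fibreIdeal_chart f hW hxW B v hv
  · obtain ⟨he, hb, hres⟩ := h
    have hgu : g u = x := hb
    haveI := he
    rw [encard_fibre_components (g ≫ f) u ((congrArg f hgu).trans hy), fibreIdeal_comp]
    subst hgu
    let H := LocalHenz (U.presheaf.stalk u)
    refine (encard_minimalPrimes_le_map (R := H) _).trans (le_of_eq ?_)
    rw [Ideal.map_map]
    letI : Algebra (X.presheaf.stalk (g u)) H :=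
      ((algebraMap (U.presheaf.stalk u) H).comp (g.stalkMap u).hom).toAlgebra
    obtain ⟨_, _⟩ := AlgSpElem.isHenselization_comp g u hres H
    rw [← card_minimalPrimes_over_ker π hs H, hπ]
    rfl

/-- Branches of a fibre through elementary étale neighbourhoods. -/
theorem numBranchesAt_fibre_eq_iSup (x : X) :
    Brnch.numBranchesAt (f.fiber (f x)) (f.asFiber x) =
      ⨆ (U : Scheme.{u}) (g : U ⟶ X) (u : U) (_ : Hens2.IsEtaleNbhd g u x),
      {Z : Set ↑((g ≫ f).fiber (f x)) | Z ∈ irreducibleComponents ↑((g ≫ f).fiber (f x)) ∧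
        ∃ u' ∈ Z, (g ≫ f).fiberι (f x) u' = u}.encard := by
  suffices hw : ∀ (y : S) (w : ↥(f.fiber y)), f.fiberι y w = x → Brnch.numBranchesAt (f.fiber y) w =
      ⨆ (U : Scheme.{u}) (g : U ⟶ X) (u : U) (_ : Hens2.IsEtaleNbhd g u x),
      {Z : Set ↑((g ≫ f).fiber y) | Z ∈ irreducibleComponents ↑((g ≫ f).fiber y) ∧
        ∃ u' ∈ Z, (g ≫ f).fiberι y u' = u}.encard from hw _ _ (f.fiberι_asFiber x)
  intro y w hwx
  subst hwx
  obtain ⟨hs, hk⟩ := Groth.Agent.S9501.result f y w
  exact numBranchesAt_fibre_eq_iSup_aux f (f.fiberι y w) (FlatDvr.fiberι_apply_eq f w) _ ((f.fiberι y).stalkMap w).hom hs hk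

end Groth.Agent.BrnchLib
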