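import Groth.Agent.BrnchLib.NbhdScheme

/-! Unibranch points through étale neighbourhoods. -/

set_option autoImplicit false

universe u

open CategoryTheory AlgebraicGeometry

namespace Groth.Agent.BrnchLib

theorem one_le_components {U : Scheme.{u}} (u : U) :
    1 ≤ {Z : Set ↑U | Z ∈ irreducibleComponents ↑U ∧ u ∈ Z}.encard :=
  Set.one_le_encard_iff_nonempty.2 ⟨irreducibleComponent u, irreducibleComponent_mem_irreducibleComponents u,
    mem_irreducibleComponent⟩

theorem isEtaleNbhd_id (X : Scheme.{u}) (x : X) : Hens2.IsEtaleNbhd (𝟙 X) x x := by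
  refine ⟨inferInstance, rfl, ?_⟩
  rw [Scheme.residueFieldMap_id]
  exact Function.bijective_id

theorem isUnibranch_stalk_iff (X : Scheme.{u}) (x : X) :
    CAlg2.IsUnibranch ↑(X.presheaf.stalk x) ↔ ∀ (U : Scheme.{u}) (g : U ⟶ X) (u : U), Hens2.IsEtaleNbhd g u x →
      {Z : Set ↑U | Z ∈ irreducibleComponents ↑U ∧ u ∈ Z}.encard = 1 := by
  rw [← isUnibranch_iff, show Brnch.numBranches (X.presheaf.stalk x) = Brnch.numBranchesAt X x from rfl,
    numBranchesAt_eq_iSup]
  constructor
  · intro h U g u hu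
    exact le_antisymm (h ▸ le_iSup_of_le U (le_iSup_of_le g (le_iSup_of_le u (le_iSup_of_le hu le_rfl))))
      (one_le_components u)
  · intro h
    refine le_antisymm (iSup_le fun U => iSup_le fun g => iSup_le fun u => iSup_le fun hu => (h U g u hu).le) ?_
    exact le_iSup_of_le X (le_iSup_of_le (𝟙 X) (le_iSup_of_le x (le_iSup_of_le (isEtaleNbhd_id X x)
      (one_le_components x))))

theorem isGeomUnibranch_stalk_iff (X : Scheme.{u}) (x : X) :
    CAlg2.IsGeomUnibranch ↑(X.presheaf.stalk x) ↔ ∀ (U : Scheme.{u}) (g : U ⟶ X) (u : U), Etale g → g u = x →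
      {Z : Set ↑U | Z ∈ irreducibleComponents ↑U ∧ u ∈ Z}.encard = 1 := by
  rw [← isGeomUnibranch_iff, show Brnch.numGeomBranches (X.presheaf.stalk x) = Brnch.numGeomBranchesAt X x from rfl,
    numGeomBranchesAt_eq_iSup]
  constructor
  · intro h U g u hg hu
    exact le_antisymm (h ▸ le_iSup_of_le U (le_iSup_of_le g (le_iSup_of_le u (le_iSup_of_le ⟨hg, hu⟩ le_rfl))))
      (one_le_components u)
  · intro h
    refine le_antisymm (iSup_le fun U => iSup_le fun g => iSup_le fun u => iSup_le fun hu =>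
      (h U g u hu.1 hu.2).le) ?_
    exact le_iSup_of_le X (le_iSup_of_le (𝟙 X) (le_iSup_of_le x (le_iSup_of_le
      (⟨inferInstance, rfl⟩ : Etale (𝟙 X) ∧ (𝟙 X : X ⟶ X) x = x) (one_le_components x))))

end Groth.Agent.BrnchLib
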