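import Groth.Agent.BrnchLib.NbhdCount
import Groth.Agent.BrnchLib.HenzStrict
import Groth.Agent.BrnchLib.Unibranch
import Groth.Agent.AlgSpElem.Branches
import Groth.Agent.UnibEtale.Chart
import Groth.Agent.MorLib.GeomFibre
import Groth.Prelude.Def_Hens2

/-!
# Branches of a scheme at a point through étale neighbourhoods
-/

set_option autoImplicit false
set_option maxHeartbeats 1600000
set_option synthInstance.maxHeartbeats 200000
set_option backward.isDefEq.respectTransparency false
set_option backward.isDefEq.respectTransparency.types false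

universe u

open CategoryTheory AlgebraicGeometry IsLocalRing Groth.Agent.Hensel

namespace Groth.Agent.BrnchLib

/-- The minimal primes below a prime inject into those of the ring. -/
theorem encard_localization_le (B O : Type u) [CommRing B] [CommRing O] [Algebra B O] (q : Ideal B) [q.IsPrime]
    [IsLocalization.AtPrime O q] :
    (minimalPrimes O).encard ≤ {P | P ∈ minimalPrimes B ∧ P ≤ q}.encard := by
  calc _ = (Ideal.comap (algebraMap B O) '' minimalPrimes O).encard := by
        rw [Set.InjOn.encard_image]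
        intro P _ Q _ h
        rw [← IsLocalization.map_comap q.primeCompl O P, ← IsLocalization.map_comap q.primeCompl O Q]
        exact congrArg _ h
    _ ≤ _ := Set.encard_le_encard (by
      rintro J ⟨P, hP, rfl⟩
      haveI := hP.1.1
      have hle : P.comap (algebraMap B O) ≤ q := fun b hb => by
        by_contra hbq
        exact hP.1.1.ne_top (Ideal.eq_top_of_isUnit_mem _ hb (IsLocalization.map_units O (⟨b, hbq⟩ : q.primeCompl)))
      refine ⟨⟨⟨Ideal.IsPrime.comap _, bot_le⟩, fun p ⟨hp, _⟩ hpP => ?_⟩, hle⟩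
      have hdis : Disjoint (q.primeCompl : Set B) (p : Set B) :=
        Set.disjoint_left.2 fun c hc hcp => hc (hle (hpP hcp))
      have h := hP.2 ⟨IsLocalization.isPrime_of_isPrime_disjoint q.primeCompl O p hp hdis, bot_le⟩
        (Ideal.map_le_iff_le_comap.2 hpP)
      exact (Ideal.comap_mono h).trans (IsLocalization.comap_map_of_isPrime_disjoint q.primeCompl O hp hdis).le)

/-- The minimal primes below a point of `Spec B` inject into those of its local ring. -/
theorem encard_le_stalk (B : Type u) [CommRing B] (v : PrimeSpectrum B) :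
    {P | P ∈ minimalPrimes B ∧ P ≤ v.asIdeal}.encard ≤
      (minimalPrimes ((Spec (CommRingCat.of B)).presheaf.stalk v)).encard := by
  let O := (Spec (CommRingCat.of B)).presheaf.stalk v
  letI : Algebra B O := StructureSheaf.stalkAlgebra B v
  haveI : IsLocalization.AtPrime O v.asIdeal := StructureSheaf.IsLocalization.to_stalk B v
  have hdis : ∀ P : Ideal B, P ≤ v.asIdeal → Disjoint (v.asIdeal.primeCompl : Set B) (P : Set B) :=
    fun P hP => Set.disjoint_left.2 fun c hc hcP => hc (hP hcP)
  calc _ = ((fun P => P.map (algebraMap B O)) '' {P | P ∈ minimalPrimes B ∧ P ≤ v.asIdeal}).encard := by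
        rw [Set.InjOn.encard_image]
        intro P hP Q hQ hPQ
        rw [← IsLocalization.comap_map_of_isPrime_disjoint v.asIdeal.primeCompl O hP.1.1.1 (hdis P hP.2),
          ← IsLocalization.comap_map_of_isPrime_disjoint v.asIdeal.primeCompl O hQ.1.1.1 (hdis Q hQ.2)]
        exact congrArg _ hPQ
    _ ≤ _ := Set.encard_le_encard fun J ⟨P, ⟨hP, hPle⟩, hJ⟩ => by
      subst hJ
      refine ⟨⟨IsLocalization.isPrime_of_isPrime_disjoint v.asIdeal.primeCompl O P hP.1.1 (hdis P hPle),
        bot_le⟩, fun q ⟨hq, _⟩ hle => ?_⟩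
      haveI := hq
      have h1 : P ≤ q.comap (algebraMap B O) := hP.2 ⟨Ideal.IsPrime.comap _, bot_le⟩
        ((Ideal.comap_mono hle).trans (IsLocalization.comap_map_of_isPrime_disjoint v.asIdeal.primeCompl O hP.1.1
          (hdis P hPle)).le)
      exact (Ideal.map_mono h1).trans Ideal.map_comap_le

variable {U X : Scheme.{u}} (g : U ⟶ X)

/-- A lift of a point to a field valued point has trivial residue extension. -/
theorem exists_bijective_of_section {x : X} {K : Type u} [Field K] (e : X.residueField x ⟶ CommRingCat.of K)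
    [IsIso e] (m : Spec (CommRingCat.of K) ⟶ U)
    (hm : m ≫ g = Spec.map e ≫ X.fromSpecResidueField x) :
    ∃ v : U, g v = x ∧ m (IsLocalRing.closedPoint K) = v ∧ Function.Bijective (g.residueFieldMap v) := by
  have hf := Scheme.descResidueField_stalkClosedPointTo_fromSpecResidueField K U m
  set v : U := m (IsLocalRing.closedPoint K)
  set ε := U.descResidueField (Scheme.stalkClosedPointTo m)
  have hgv : g v = x := by
    have h1 := congrArg (fun k : Spec (CommRingCat.of K) ⟶ X => k (IsLocalRing.closedPoint K)) hm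
    simp only [Scheme.Hom.comp_apply, Scheme.fromSpecResidueField_apply] at h1
    exact h1
  refine ⟨v, hgv, rfl, RingHom.injective _, fun z => ?_⟩
  have h3 : Spec.map (g.residueFieldMap v ≫ ε) = Spec.map ((X.residueFieldCongr hgv).hom ≫ e) := by
    rw [← cancel_mono (X.fromSpecResidueField (g v)), Spec.map_comp, Spec.map_comp, Category.assoc, Category.assoc,
      Scheme.Hom.SpecMap_residueFieldMap_fromSpecResidueField, Scheme.residueFieldCongr_fromSpecResidueField,
      ← hm, ← Category.assoc, hf]
  have h2 : IsIso (g.residueFieldMap v ≫ ε) := by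
    rw [Spec.map_injective h3]
    infer_instance
  obtain ⟨y, hy⟩ := ((ConcreteCategory.isIso_iff_bijective _).1 h2).2 (ε.hom z)
  exact ⟨y, RingHom.injective ε.hom hy⟩

variable (x : X)

/-- The chart of a point of an étale algebra over an affine open. -/
theorem exists_etale_of_point {W : X.Opens} (hW : IsAffineOpen W) (B : Type u) [CommRing B] [Algebra Γ(X, W) B]
    [Algebra.Etale Γ(X, W) B] :
    let q : Spec (CommRingCat.of B) ⟶ X :=
      Spec.map (CommRingCat.ofHom (algebraMap Γ(X, W) B)) ≫ hW.fromSpec
    Etale q := by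
  haveI : Etale (Spec.map (CommRingCat.ofHom (algebraMap Γ(X, W) B))) :=
    (HasRingHomProperty.Spec_iff (P := @Etale)).2 (RingHom.etale_algebraMap.2 inferInstance)
  exact inferInstanceAs (Etale (_ ≫ _))

/-- The branches are counted by the components through elementary étale neighbourhoods. -/
theorem numBranchesAt_eq_iSup : Brnch.numBranchesAt X x =
    ⨆ (U : Scheme.{u}) (g : U ⟶ X) (u : U) (_ : Hens2.IsEtaleNbhd g u x),
      {Z : Set ↑U | Z ∈ irreducibleComponents ↑U ∧ u ∈ Z}.encard := by
  refine le_antisymm ?_ (iSup_le fun U => iSup_le fun g => iSup_le fun u => iSup_le fun h => ?_)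
  · set R := LocalHenz (X.presheaf.stalk x)
    rw [Brnch.numBranchesAt, ← card_minimalPrimes_henselization (A := X.presheaf.stalk x) R, ENat.card_coe_set_eq]
    obtain ⟨W, hW, hxW, -⟩ := exists_isAffineOpen_mem_and_subset (X := X) (x := x) (U := ⊤) trivial
    letI := TopCat.Presheaf.algebra_section_stalk X.presheaf (⟨x, hxW⟩ : W)
    haveI := hW.isLocalization_stalk ⟨x, hxW⟩
    refine ENat.forall_natCast_le_iff_le.1 fun n hn => ?_
    obtain ⟨t, ht, hcard⟩ := Set.exists_subset_encard_eq hn
    have hfin : t.Finite := Set.finite_of_encard_eq_coe hcard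
    rw [← hcard, hfin.encard_eq_coe_toFinset_card]
    obtain ⟨B, _, _, _, τ, hτ⟩ := AlgSpElem.exists_etale_separating (X.presheaf.stalk x)
      (hW.primeIdealOf ⟨x, hxW⟩).asIdeal R hfin.toFinset (by simpa using ht)
    let q : Spec (CommRingCat.of B) ⟶ X :=
      Spec.map (CommRingCat.ofHom (algebraMap Γ(X, W) B)) ≫ hW.fromSpec
    have hq : Etale q := exists_etale_of_point hW B
    have hc : Spec.map (CommRingCat.ofHom τ.toRingHom) ≫ q = X.fromSpecResidueField x := by
      rw [← Category.assoc, ← Spec.map_comp, Scheme.fromSpecResidueField,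
        ← hW.fromSpecStalk_eq_fromSpecStalk hxW, IsAffineOpen.fromSpecStalk, ← Category.assoc, ← Spec.map_comp]
      congr 2
      exact CommRingCat.hom_ext τ.comp_algebraMap
    obtain ⟨v, hv, hvm, hb⟩ := exists_bijective_of_section (x := x) (K := ResidueField (X.presheaf.stalk x)) q
      (𝟙 (X.residueField x)) (Spec.map (CommRingCat.ofHom τ.toRingHom))
      (hc.trans (by rw [Spec.map_id]; exact (Category.id_comp _).symm))
    refine hτ.trans (le_trans ?_ (le_iSup_of_le _ (le_iSup_of_le q (le_iSup_of_le v
      (le_iSup_of_le (⟨hq, hv, hb⟩ : Hens2.IsEtaleNbhd q v x) le_rfl)))))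
    rw [AlgSpElem.encard_components]
    have hker : RingHom.ker τ = v.asIdeal := by
      rw [← hvm]
      ext b
      show τ b = 0 ↔ τ b ∈ maximalIdeal (X.residueField x)
      rw [IsLocalRing.maximalIdeal_eq_bot, Ideal.mem_bot]
    rw [hker]
    exact encard_le_stalk B v
  · obtain ⟨he, hb, hres⟩ := h
    have hb' : g u = x := hb
    subst hb'
    haveI := he
    rw [AlgSpElem.encard_components]
    refine (AlgSpElem.encard_minimalPrimes_le_numBranches _).trans (le_of_eq ?_)
    let H := LocalHenz (U.presheaf.stalk u)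
    letI : Algebra (X.presheaf.stalk (g u)) H :=
      ((algebraMap (U.presheaf.stalk u) H).comp (g.stalkMap u).hom).toAlgebra
    obtain ⟨_, _⟩ := AlgSpElem.isHenselization_comp g u hres H
    rw [Brnch.numBranchesAt, ← card_minimalPrimes_henselization (A := X.presheaf.stalk (g u)) H,
      ← card_minimalPrimes_henselization (A := U.presheaf.stalk u) H]

/-- The geometric branches are counted by the components through étale neighbourhoods. -/
theorem numGeomBranchesAt_eq_iSup : Brnch.numGeomBranchesAt X x =
    ⨆ (U : Scheme.{u}) (g : U ⟶ X) (u : U) (_ : Etale g ∧ g u = x),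
      {Z : Set ↑U | Z ∈ irreducibleComponents ↑U ∧ u ∈ Z}.encard := by
  let κ := ResidueField (X.presheaf.stalk x)
  let Ω := AlgebraicClosure κ
  refine le_antisymm ?_ (iSup_le fun U => iSup_le fun g => iSup_le fun u => iSup_le fun ⟨he, hgu⟩ => ?_)
  · obtain ⟨W, hW, hxW, -⟩ := exists_isAffineOpen_mem_and_subset (X := X) (x := x) (U := ⊤) trivial
    letI := TopCat.Presheaf.algebra_section_stalk X.presheaf (⟨x, hxW⟩ : W)
    haveI := hW.isLocalization_stalk ⟨x, hxW⟩
    haveI : IsScalarTower Γ(X, W) (X.presheaf.stalk x) Ω := inferInstance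
    haveI : IsLocalHom (algebraMap (X.presheaf.stalk x) Ω) := ⟨fun r hr => by
      by_contra h
      rw [IsScalarTower.algebraMap_apply (X.presheaf.stalk x) κ Ω, IsLocalRing.ResidueField.algebraMap_eq,
        (residue_eq_zero_iff r).2 h, map_zero] at hr
      exact not_isUnit_zero hr⟩
    letI := (AlgSpDec.EtHenz.fromLocal Γ(X, W) (X.presheaf.stalk x) Ω
      (hW.primeIdealOf ⟨x, hxW⟩).asIdeal.primeCompl).toRingHom.toAlgebra
    obtain ⟨_, _⟩ := AlgSpDec.EtHenz.isStrictHenselization Γ(X, W) (X.presheaf.stalk x) Ω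
      (hW.primeIdealOf ⟨x, hxW⟩).asIdeal.primeCompl
    rw [Brnch.numGeomBranchesAt, ← card_minimalPrimes_strictHenselization (X.presheaf.stalk x) (Henz Γ(X, W) Ω),
      ENat.card_coe_set_eq]
    refine ENat.forall_natCast_le_iff_le.1 fun n hn => ?_
    obtain ⟨t, ht, hcard⟩ := Set.exists_subset_encard_eq hn
    have hfin : t.Finite := Set.finite_of_encard_eq_coe hcard
    rw [← hcard, hfin.encard_eq_coe_toFinset_card]
    obtain ⟨B, _, _, _, τ, hτ⟩ := exists_point_card_le hfin.toFinset (by simpa using ht)
    let q : Spec (CommRingCat.of B) ⟶ X :=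
      Spec.map (CommRingCat.ofHom (algebraMap Γ(X, W) B)) ≫ hW.fromSpec
    have hq : Etale q := exists_etale_of_point hW B
    haveI : (RingHom.ker τ).IsPrime := RingHom.ker_isPrime _
    let v : Spec (CommRingCat.of B) := ⟨RingHom.ker τ, inferInstance⟩
    have hv : q v = x := by
      refine Eq.trans ?_ (hW.fromSpec_primeIdealOf ⟨x, hxW⟩)
      show hW.fromSpec (Spec.map (CommRingCat.ofHom (algebraMap Γ(X, W) B)) v) = _
      congr 1
      refine PrimeSpectrum.ext (Ideal.ext fun a => ?_)
      show τ (algebraMap Γ(X, W) B a) = 0 ↔ _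
      rw [AlgHom.commutes, IsScalarTower.algebraMap_apply Γ(X, W) (X.presheaf.stalk x) Ω,
        IsScalarTower.algebraMap_apply (X.presheaf.stalk x) κ Ω, map_eq_zero, IsLocalRing.ResidueField.algebraMap_eq,
        residue_eq_zero_iff, ← IsLocalization.AtPrime.to_map_mem_maximal_iff (X.presheaf.stalk x)
          (hW.primeIdealOf ⟨x, hxW⟩).asIdeal]
    refine hτ.trans (le_trans ?_ (le_iSup_of_le _ (le_iSup_of_le q (le_iSup_of_le v
      (le_iSup_of_le (⟨hq, hv⟩ : Etale q ∧ q v = x) le_rfl)))))
    rw [AlgSpElem.encard_components]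
    exact encard_le_stalk B v
  · subst hgu
    haveI := he
    rw [AlgSpElem.encard_components]
    haveI : Etale ((⊤ : U.Opens).ι ≫ g) := inferInstance
    obtain ⟨W, hW, V, hV, hVW, huV, -, hE⟩ := UnibEtale.exists_etale_chart g u ⊤ trivial
    have hxW : g u ∈ W := hVW huV
    algebraize [(g.appLE W V hVW).hom]
    haveI : Algebra.Etale Γ(X, W) Γ(U, V) := hE
    let O := X.presheaf.stalk (g u)
    let O' := U.presheaf.stalk u
    letI := TopCat.Presheaf.algebra_section_stalk X.presheaf (⟨g u, hxW⟩ : W)
    haveI := hW.isLocalization_stalk ⟨g u, hxW⟩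
    letI := TopCat.Presheaf.algebra_section_stalk U.presheaf (⟨u, huV⟩ : V)
    haveI := hV.isLocalization_stalk ⟨u, huV⟩
    haveI : IsScalarTower Γ(X, W) O Ω := inferInstance
    haveI : IsLocalHom (algebraMap O Ω) := ⟨fun r hr => by
      by_contra h
      rw [IsScalarTower.algebraMap_apply O κ Ω, IsLocalRing.ResidueField.algebraMap_eq,
        (residue_eq_zero_iff r).2 h, map_zero] at hr
      exact not_isUnit_zero hr⟩
    letI := (AlgSpDec.EtHenz.fromLocal Γ(X, W) O Ω
      (hW.primeIdealOf ⟨g u, hxW⟩).asIdeal.primeCompl).toRingHom.toAlgebra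
    obtain ⟨_, _⟩ := AlgSpDec.EtHenz.isStrictHenselization Γ(X, W) O Ω
      (hW.primeIdealOf ⟨g u, hxW⟩).asIdeal.primeCompl
    rw [Brnch.numGeomBranchesAt, ← card_minimalPrimes_strictHenselization O (Henz Γ(X, W) Ω), ENat.card_coe_set_eq]
    letI : Algebra κ (ResidueField O') := (ResidueField.map (g.stalkMap u).hom).toAlgebra
    haveI : Module.Finite κ (ResidueField O') := Groth.Agent.MorLib.GF.finite_residueFieldMap g u
    haveI : Algebra.IsAlgebraic κ (ResidueField O') := Algebra.IsAlgebraic.of_finite κ _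
    let j : ResidueField O' →ₐ[κ] Ω := IsAlgClosed.lift
    let τ : Γ(U, V) →ₐ[Γ(X, W)] Ω :=
      { j.toRingHom.comp ((residue O').comp (algebraMap Γ(U, V) O')) with
        commutes' := fun a => by
          show j (residue O' (U.presheaf.germ V u huV ((g.appLE W V hVW) a))) = _
          rw [show U.presheaf.germ V u huV ((g.appLE W V hVW) a) =
            (g.stalkMap u) (X.presheaf.germ W (g u) hxW a) by
              rw [Scheme.Hom.germ_stalkMap_apply, Scheme.Hom.appLE]
              exact U.presheaf.germ_res_apply (homOfLE hVW) u huV _]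
          exact j.commutes (residue O (X.presheaf.germ W (g u) hxW a)) }
    refine (encard_localization_le Γ(U, V) O' (hV.primeIdealOf ⟨u, huV⟩).asIdeal).trans ?_
    refine le_trans (le_of_eq ?_) (encard_le_of_point Γ(U, V) τ)
    congr 1
    ext P
    refine and_congr_right fun _ => Iff.of_eq (congrArg (P ≤ ·) (Ideal.ext fun b => ?_))
    show _ ↔ j (residue O' (algebraMap Γ(U, V) O' b)) = 0
    rw [map_eq_zero, residue_eq_zero_iff, IsLocalization.AtPrime.to_map_mem_maximal_iff O'
      (hV.primeIdealOf ⟨u, huV⟩).asIdeal]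

end Groth.Agent.BrnchLib
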