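import Groth.Agent.BrnchLib.DimOneCompl
import Mathlib.RingTheory.Filtration
import Mathlib.RingTheory.Flat.EquationalCriterion
import Mathlib.RingTheory.Flat.FaithfullyFlat.Algebra

/-!
# Connectedness of the punctured spectrum descends to the henselization

A partition of the punctured spectrum of a dense faithfully flat algebra `T` over a henselian Noetherian
local ring `S` gives a linear map `φ : m ^ N → T` with `φ z * φ w = φ (z * w)`.  Up to a small multiple of the
inclusion `φ` comes from `S`, and henselianity corrects it to an idempotent operator `m ^ N → S`.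
-/

noncomputable section

namespace Groth.Agent.BrnchLib

universe u

open IsLocalRing TensorProduct

set_option linter.style.haveILetI false

variable (S : Type u) [CommRing S]

/-- No pair of ideals disconnects the punctured spectrum. -/
def PConn [IsLocalRing S] : Prop :=
  ∀ (N : ℕ) (J₁ J₂ : Ideal S), maximalIdeal S ^ N ≤ J₁ ⊔ J₂ → J₁ * J₂ ≤ nilradical S →
    J₁ ≤ nilradical S ∨ J₂ ≤ nilradical S

theorem isPreconnected_punctured_iff [IsLocalRing S] [IsNoetherianRing S] :
    IsPreconnected ({closedPoint S}ᶜ : Set (PrimeSpectrum S)) ↔ PConn S := by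
  have hmem : ∀ x : PrimeSpectrum S, x ∈ ({closedPoint S}ᶜ : Set _) ↔ x.asIdeal ≠ maximalIdeal S := fun x => by
    rw [Set.mem_compl_iff, Set.mem_singleton_iff, PrimeSpectrum.ext_iff]
    rfl
  constructor
  · intro h N J₁ J₂ hN h12
    by_cases hn : nilradical S = maximalIdeal S
    · rw [hn] at h12 ⊢
      rcases (Ideal.IsPrime.mul_le (maximalIdeal.isMaximal S).isPrime).1 h12 with h | h
      · exact Or.inl h
      · exact Or.inr h
    have hcov : ({closedPoint S}ᶜ : Set (PrimeSpectrum S)) ⊆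
        PrimeSpectrum.zeroLocus (J₁ : Set S) ∪ PrimeSpectrum.zeroLocus (J₂ : Set S) := fun x _ =>
      (x.isPrime.mul_le).1 (h12.trans (nilradical_le_prime x.asIdeal))
    have hdis : (({closedPoint S}ᶜ : Set (PrimeSpectrum S)) ∩
        (PrimeSpectrum.zeroLocus (J₁ : Set S) ∩ PrimeSpectrum.zeroLocus (J₂ : Set S))) = ∅ := by
      refine Set.eq_empty_iff_forall_notMem.2 fun x ⟨hx, h₁, h₂⟩ => (hmem x).1 hx ?_
      have : maximalIdeal S ^ N ≤ x.asIdeal := hN.trans (sup_le h₁ h₂)
      exact le_antisymm (le_maximalIdeal x.isPrime.ne_top) (x.isPrime.le_of_pow_le this)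
    -- one of the two closed sets contains the punctured spectrum
    have hone := isPreconnected_closed_iff.1 h _ _ (PrimeSpectrum.isClosed_zeroLocus _)
      (PrimeSpectrum.isClosed_zeroLocus _) hcov
    have key : ∀ J : Ideal S, ({closedPoint S}ᶜ : Set (PrimeSpectrum S)) ⊆ PrimeSpectrum.zeroLocus (J : Set S) →
        J ≤ nilradical S := fun J hJ => by
      rw [nilradical, Ideal.zero_eq_bot, ← Ideal.sInf_minimalPrimes]
      refine le_sInf fun P hP => ?_
      haveI := hP.1.1
      refine hJ ((hmem ⟨P, inferInstance⟩).2 fun (hPm : P = maximalIdeal S) => hn ?_)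
      refine le_antisymm (nilradical_le_prime _) ?_
      rw [nilradical, Ideal.zero_eq_bot, ← Ideal.sInf_minimalPrimes]
      refine le_sInf fun Q hQ => ?_
      haveI := hQ.1.1
      exact hPm ▸ hP.2 ⟨inferInstance, bot_le⟩ (hPm ▸ le_maximalIdeal hQ.1.1.ne_top)
    rcases Set.eq_empty_or_nonempty (({closedPoint S}ᶜ : Set (PrimeSpectrum S)) ∩
        PrimeSpectrum.zeroLocus (J₁ : Set S)) with h₁ | h₁
    · exact Or.inr (key J₂ fun x hx => (hcov hx).resolve_left fun hx₁ => (Set.eq_empty_iff_forall_notMem.1 h₁ x) ⟨hx, hx₁⟩)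
    rcases Set.eq_empty_or_nonempty (({closedPoint S}ᶜ : Set (PrimeSpectrum S)) ∩
        PrimeSpectrum.zeroLocus (J₂ : Set S)) with h₂ | h₂
    · exact Or.inl (key J₁ fun x hx => (hcov hx).resolve_right fun hx₂ => (Set.eq_empty_iff_forall_notMem.1 h₂ x) ⟨hx, hx₂⟩)
    exact absurd hdis (hone h₁ h₂).ne_empty
  · intro h
    rw [isPreconnected_closed_iff]
    intro t t' ht ht' hcov ⟨a, ha, hat⟩ ⟨b, hb, hbt⟩
    obtain ⟨I₁, rfl⟩ := (PrimeSpectrum.isClosed_iff_zeroLocus_ideal t).1 ht
    obtain ⟨I₂, rfl⟩ := (PrimeSpectrum.isClosed_iff_zeroLocus_ideal t').1 ht'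
    by_contra hne
    rw [Set.not_nonempty_iff_eq_empty] at hne
    set J₁ := maximalIdeal S * I₁
    set J₂ := maximalIdeal S * I₂
    have hmul : J₁ * J₂ ≤ nilradical S := by
      rw [nilradical, Ideal.zero_eq_bot, ← Ideal.sInf_minimalPrimes]
      refine le_sInf fun P hP => ?_
      haveI := hP.1.1
      by_cases hPm : P = maximalIdeal S
      · exact hPm ▸ Ideal.mul_le_right.trans Ideal.mul_le_left
      · rcases hcov ((hmem ⟨P, inferInstance⟩).2 hPm) with h₁ | h₂
        · exact (Ideal.mul_le_left.trans Ideal.mul_le_right).trans h₁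
        · exact (Ideal.mul_le_right.trans Ideal.mul_le_right).trans h₂
    have hrad : maximalIdeal S ≤ (J₁ ⊔ J₂).radical := by
      rw [Ideal.radical_eq_sInf]
      refine le_sInf fun P ⟨hPle, hP⟩ => ?_
      rw [sup_le_iff] at hPle
      by_contra hm
      refine (Set.eq_empty_iff_forall_notMem.1 hne ⟨P, hP⟩) ⟨(hmem _).2 fun (h' : P = _) => hm h'.ge, ?_, ?_⟩
      · exact (hP.mul_le.1 hPle.1).resolve_left hm
      · exact (hP.mul_le.1 hPle.2).resolve_left hm
    obtain ⟨N, hN⟩ := Ideal.exists_pow_le_of_le_radical_of_fg hrad (IsNoetherian.noetherian _)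
    rcases h N J₁ J₂ hN hmul with h₁ | h₂
    · refine (Set.eq_empty_iff_forall_notMem.1 hne b) ⟨hb, ?_, hbt⟩
      exact (b.isPrime.mul_le.1 (h₁.trans (nilradical_le_prime _))).resolve_left fun hle =>
        (hmem b).1 hb (le_antisymm (le_maximalIdeal b.isPrime.ne_top) hle)
    · refine (Set.eq_empty_iff_forall_notMem.1 hne a) ⟨ha, hat, ?_⟩
      exact (a.isPrime.mul_le.1 (h₂.trans (nilradical_le_prime _))).resolve_left fun hle =>
        (hmem a).1 ha (le_antisymm (le_maximalIdeal a.isPrime.ne_top) hle)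

variable {S} [IsLocalRing S] [IsNoetherianRing S] {T : Type u} [CommRing T] [Algebra S T] [IsLocalRing T]
  [IsNoetherianRing T] [Module.FaithfullyFlat S T]

/-- Sharpening a disconnection: the two ideals may be assumed to meet in zero. -/
theorem exists_disjoint_of_not_pconn {R : Type u} [CommRing R] [IsLocalRing R] [IsNoetherianRing R]
    (h : ¬ PConn R) : ∃ (N : ℕ) (J₁ J₂ : Ideal R), maximalIdeal R ^ N ≤ J₁ ⊔ J₂ ∧ J₁ ⊓ J₂ = ⊥ ∧
      J₁ ≤ maximalIdeal R ∧ J₂ ≤ maximalIdeal R ∧ ¬ J₁ ≤ nilradical R ∧ ¬ J₂ ≤ nilradical R := by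
  simp only [PConn, not_forall, not_or] at h
  obtain ⟨N, J₁, J₂, hN, h12, h1, h2⟩ := h
  have hne1 : J₁ ≤ maximalIdeal R := le_maximalIdeal fun e => h2 (by rwa [e, Ideal.top_mul] at h12)
  have hne2 : J₂ ≤ maximalIdeal R := le_maximalIdeal fun e => h1 (by rwa [e, Ideal.mul_top] at h12)
  obtain ⟨n, hn⟩ := IsNoetherianRing.isNilpotent_nilradical R
  have hn0 : n ≠ 0 := fun e => by subst e; simp at hn
  set K₁ := J₁ ^ n
  set K₂ := J₂ ^ n
  have hK : K₁ * K₂ = ⊥ := le_bot_iff.1 (by rw [← mul_pow]; exact (Ideal.pow_right_mono h12 n).trans hn.le)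
  obtain ⟨N', hN'⟩ : ∃ N', maximalIdeal R ^ N' ≤ K₁ ⊔ K₂ := by
    refine Ideal.exists_pow_le_of_le_radical_of_fg ?_ (IsNoetherian.noetherian _)
    rw [Ideal.radical_eq_sInf]
    refine le_sInf fun P ⟨hle, hP⟩ => hP.le_of_pow_le (hN.trans ?_)
    rw [sup_le_iff] at hle ⊢
    exact ⟨hP.le_of_pow_le hle.1, hP.le_of_pow_le hle.2⟩
  set H := K₁ ⊓ K₂
  have hH : maximalIdeal R ^ N' * H = ⊥ := le_bot_iff.1 <| (Ideal.mul_mono_left hN').trans <| by
    rw [Ideal.sup_mul, sup_le_iff]
    exact ⟨(Ideal.mul_mono_right inf_le_right).trans hK.le,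
      (Ideal.mul_mono_right inf_le_left).trans ((mul_comm K₂ K₁).trans_le hK.le)⟩
  obtain ⟨k, hk⟩ := Ideal.exists_pow_inf_eq_pow_smul (M := R) (maximalIdeal R) H
  have hM : maximalIdeal R ^ (N' + k) ⊓ H = ⊥ := by
    have h := hk (N' + k) (Nat.le_add_left k N')
    rw [Nat.add_sub_cancel, Ideal.smul_eq_mul, Ideal.smul_eq_mul, Ideal.mul_top] at h
    rw [h]
    exact le_bot_iff.1 ((Ideal.mul_mono_right inf_le_right).trans hH.le)
  refine ⟨N' + (N' + k), K₁ ⊓ maximalIdeal R ^ (N' + k), K₂ ⊓ maximalIdeal R ^ (N' + k), ?_, ?_, ?_, ?_, ?_, ?_⟩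
  · rw [pow_add]
    refine (Ideal.mul_mono_left hN').trans ?_
    rw [Ideal.sup_mul]
    exact sup_le_sup (le_inf Ideal.mul_le_left Ideal.mul_le_right) (le_inf Ideal.mul_le_left Ideal.mul_le_right)
  · rw [← hM]
    exact le_antisymm (le_inf (inf_le_left.trans inf_le_right) (inf_le_inf inf_le_left inf_le_left))
      (le_inf (le_inf (inf_le_right.trans inf_le_left) inf_le_left) (le_inf (inf_le_right.trans inf_le_right) inf_le_left))
  · exact inf_le_left.trans ((Ideal.pow_le_self hn0).trans hne1)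
  · exact inf_le_left.trans ((Ideal.pow_le_self hn0).trans hne2)
  all_goals
    intro hc
    rw [nilradical, Ideal.zero_eq_bot, ← Ideal.sInf_minimalPrimes] at hc
  · refine h1 ?_
    rw [nilradical, Ideal.zero_eq_bot, ← Ideal.sInf_minimalPrimes]
    refine le_sInf fun P hP => ?_
    have h' : K₁ * maximalIdeal R ^ (N' + k) ≤ P :=
      ((le_inf Ideal.mul_le_left Ideal.mul_le_right).trans hc).trans (sInf_le hP)
    rcases hP.1.1.mul_le.1 h' with h'' | h''
    · exact hP.1.1.le_of_pow_le h''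
    · exact hne1.trans (hP.1.1.le_of_pow_le h'')
  · refine h2 ?_
    rw [nilradical, Ideal.zero_eq_bot, ← Ideal.sInf_minimalPrimes]
    refine le_sInf fun P hP => ?_
    have h' : K₂ * maximalIdeal R ^ (N' + k) ≤ P :=
      ((le_inf Ideal.mul_le_left Ideal.mul_le_right).trans hc).trans (sInf_le hP)
    rcases hP.1.1.mul_le.1 h' with h'' | h''
    · exact hP.1.1.le_of_pow_le h''
    · exact hne2.trans (hP.1.1.le_of_pow_le h'')

/-- A linear system with coefficients in `S` solvable with small solution in `T` is so in `S`. -/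
theorem exists_smul_eq_of_faithfullyFlat {ι : Type} [Fintype ι] [DecidableEq ι] (m : Ideal S) (v w : ι → S) (β : T)
    (hβ : β ∈ m.map (algebraMap S T)) (h : ∀ i, algebraMap S T (v i) = β * algebraMap S T (w i)) :
    ∃ α ∈ m, ∀ i, v i = α * w i := by
  let M' : Submodule S (ι → S) := Submodule.map (LinearMap.toSpanSingleton S (ι → S) w) m
  have h1 : (1 : T) ⊗ₜ[S] v = β ⊗ₜ[S] w := by
    apply (TensorProduct.piScalarRight S T T ι).injective
    ext i
    simpa [Algebra.smul_def, mul_comm] using h i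
  have h2 : (β ⊗ₜ[S] (Submodule.Quotient.mk w : (ι → S) ⧸ M')) = 0 := by
    clear h1 h
    induction hβ using Submodule.span_induction with
    | mem x hx =>
      obtain ⟨a, ha, rfl⟩ := hx
      have haw : a • w ∈ M' := ⟨a, ha, rfl⟩
      rw [Algebra.algebraMap_eq_smul_one, smul_tmul, ← Submodule.Quotient.mk_smul,
        (Submodule.Quotient.mk_eq_zero M').2 haw, tmul_zero]
    | zero => simp
    | add x y _ _ hx hy => rw [add_tmul, hx, hy, add_zero]
    | smul t x _ hx => rw [← smul_tmul', hx, smul_zero]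
  have h3 : (1 : T) ⊗ₜ[S] (Submodule.Quotient.mk v : (ι → S) ⧸ M') = 0 := by
    have := congrArg (M'.mkQ.lTensor T) h1
    rw [LinearMap.lTensor_tmul, LinearMap.lTensor_tmul] at this
    exact this.trans h2
  obtain ⟨α, hα, e⟩ := (Submodule.Quotient.mk_eq_zero M').1
    (Module.FaithfullyFlat.tensorProduct_mk_injective (A := S) (B := T) ((ι → S) ⧸ M')
      (h3.trans (by simp : (0 : T ⊗[S] ((ι → S) ⧸ M')) = TensorProduct.mk S T _ 1 0)))
  exact ⟨α, hα, fun i => (congrFun e i).symm⟩

/-- A disconnection of the dense algebra descends. -/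
theorem pconn_of_pconn [HenselianLocalRing S] (hm : (maximalIdeal S).map (algebraMap S T) = maximalIdeal T)
    (hd : ∀ (k : ℕ) (t : T), ∃ d : S, t - algebraMap S T d ∈ (maximalIdeal S ^ k).map (algebraMap S T))
    (h : PConn S) : PConn T := by
  by_contra hT
  obtain ⟨N₀, J₁, J₂, hN₀, h12, hJ1, hJ2, h1, h2⟩ := exists_disjoint_of_not_pconn hT
  set N := N₀ + 1
  set I := maximalIdeal S ^ N
  have hIle : I.map (algebraMap S T) ≤ J₁ ⊔ J₂ := by
    rw [Ideal.map_pow, hm]
    exact (Ideal.pow_le_pow_right (Nat.le_succ _)).trans hN₀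
  have hIm : I.map (algebraMap S T) ≤ maximalIdeal T := by
    rw [Ideal.map_pow, hm]
    exact Ideal.pow_le_self (Nat.succ_ne_zero _)
  -- the projection
  have hdec : ∀ z : I, ∃ y, y ∈ J₂ ∧ algebraMap S T z - y ∈ J₁ := fun z => by
    obtain ⟨x, hx, y, hy, e⟩ := Submodule.mem_sup.1 (hIle (Ideal.mem_map_of_mem _ z.2))
    exact ⟨y, hy, by rwa [← e, add_sub_cancel_right]⟩
  choose φ₀ hφ₂ hφ₁ using hdec
  have huniq : ∀ {c y y' : T}, y ∈ J₂ → c - y ∈ J₁ → y' ∈ J₂ → c - y' ∈ J₁ → y = y' := fun {c y y'} a b a' b' => by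
    rw [← sub_eq_zero, ← Ideal.mem_bot, ← h12]
    exact ⟨by simpa using sub_mem b' b, sub_mem a a'⟩
  let φ : I →ₗ[S] T :=
    { toFun := φ₀
      map_add' := fun z w => huniq (hφ₂ _) (hφ₁ _) (add_mem (hφ₂ z) (hφ₂ w)) (by
        convert add_mem (hφ₁ z) (hφ₁ w) using 1
        rw [Submodule.coe_add, map_add]; ring)
      map_smul' := fun s z => huniq (hφ₂ _) (hφ₁ _) (by
          rw [Algebra.smul_def]; exact Ideal.mul_mem_left _ _ (hφ₂ z)) (by
        convert Ideal.mul_mem_left _ (algebraMap S T s) (hφ₁ z) using 1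
        rw [Algebra.smul_def, RingHom.id_apply, Submodule.coe_smul, smul_eq_mul, map_mul]; ring) }
  have hφmul : ∀ z w : I, φ z * φ w = φ ((z : S) • w) := fun z w => huniq (Ideal.mul_mem_left _ _ (hφ₂ w))
    (by
      have e : algebraMap S T (((z : S) • w : I) : S) - φ₀ z * φ₀ w =
          (algebraMap S T z - φ₀ z) * algebraMap S T w + φ₀ z * (algebraMap S T w - φ₀ w) := by
        rw [Submodule.coe_smul, smul_eq_mul, map_mul]; ring
      change _ - φ₀ z * φ₀ w ∈ J₁
      rw [e]
      exact add_mem (Ideal.mul_mem_right _ _ (hφ₁ z)) (Ideal.mul_mem_left _ _ (hφ₁ w)))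
    (hφ₂ _) (hφ₁ _)
  have hφsymm : ∀ z w : I, algebraMap S T z * φ w = φ ((z : S) • w) := fun z w => by
    rw [map_smul, Algebra.smul_def]
  -- descend up to a small multiple of the inclusion
  haveI : Module.FinitePresentation S I := Module.finitePresentation_of_finite S I
  obtain ⟨r, a, y, hya⟩ := Module.Flat.exists_factorization_of_finitePresentation φ
  choose s hs using fun j => hd (N + N) (y (Finsupp.single j 1))
  let δ : Fin r → T := fun j => y (Finsupp.single j 1) - algebraMap S T (s j)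
  let ψ : I →ₗ[S] S := ∑ j, s j • (Finsupp.lapply j ∘ₗ a)
  have hsmall : ∀ (j : Fin r) (d : T), d ∈ (maximalIdeal S ^ (N + N)).map (algebraMap S T) →
      ∃ t ∈ I.map (algebraMap S T), ∀ z : I, d * algebraMap S T (a z j) = t * algebraMap S T z := fun j d hd' => by
    induction hd' using Submodule.span_induction with
    | mem x hx =>
      obtain ⟨x, hx, rfl⟩ := hx
      have hxI : x ∈ I := Ideal.pow_le_pow_right (Nat.le_add_right N N) hx
      refine ⟨algebraMap S T (a ⟨x, hxI⟩ j), ?_, fun z => ?_⟩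
      · refine Ideal.mem_map_of_mem _ ?_
        have hx2 : x ∈ I * I := by rw [← pow_add]; exact hx
        have key : ∀ x ∈ I * I, ∀ hxI : x ∈ I, a ⟨x, hxI⟩ j ∈ I := fun x hx => by
          induction hx using Submodule.mul_induction_on' with
          | mem_mul_mem p hp q hq =>
            intro _
            have e : (⟨p * q, I.mul_mem_left p hq⟩ : I) = p • ⟨q, hq⟩ := rfl
            rw [e, map_smul, Finsupp.smul_apply, smul_eq_mul]
            exact I.mul_mem_right _ hp
          | add x hx y hy ihx ihy =>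
            intro _
            have e : (⟨x + y, add_mem (Ideal.mul_le_left hx) (Ideal.mul_le_left hy)⟩ : I) =
              ⟨x, Ideal.mul_le_left hx⟩ + ⟨y, Ideal.mul_le_left hy⟩ := rfl
            rw [e, map_add, Finsupp.add_apply]
            exact add_mem (ihx _) (ihy _)
        exact key x hx2 _
      · rw [← map_mul, ← map_mul]
        have e : x • z = (z : S) • (⟨x, hxI⟩ : I) := Subtype.ext (mul_comm _ _)
        have h' := congrArg (fun w => a w j) e
        simp only [map_smul, Finsupp.smul_apply, smul_eq_mul] at h'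
        rw [h', mul_comm (z : S)]
    | zero => exact ⟨0, zero_mem _, by simp⟩
    | add x z _ _ hx hz =>
      obtain ⟨t, ht, h⟩ := hx
      obtain ⟨t', ht', h'⟩ := hz
      exact ⟨t + t', add_mem ht ht', fun w => by rw [add_mul, add_mul, h, h']⟩
    | smul c x _ hx =>
      obtain ⟨t, ht, h⟩ := hx
      exact ⟨c * t, Ideal.mul_mem_left _ c ht, fun w => by rw [smul_eq_mul, mul_assoc, h, mul_assoc]⟩
  choose t ht hts using fun j => hsmall j (δ j) (hs j)
  set t' := ∑ j, t j
  have htm : t' ∈ I.map (algebraMap S T) := sum_mem fun j _ => ht j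
  have hψ : ∀ z : I, algebraMap S T (ψ z) = φ z - t' * algebraMap S T z := fun z => by
    have hexp : φ z = ∑ j, a z j • y (Finsupp.single j 1) := by
      rw [hya, LinearMap.comp_apply]
      conv_lhs => rw [← Finsupp.univ_sum_single (a z), map_sum]
      refine Finset.sum_congr rfl fun j _ => ?_
      rw [← map_smul, Finsupp.smul_single, smul_eq_mul, mul_one]
    rw [hexp, Finset.sum_mul, ← Finset.sum_sub_distrib]
    simp only [ψ, LinearMap.coe_sum, Finset.sum_apply, LinearMap.smul_apply, LinearMap.comp_apply,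
      Finsupp.lapply_apply, smul_eq_mul, map_sum, map_mul]
    refine Finset.sum_congr rfl fun j _ => ?_
    rw [← hts j z, Algebra.smul_def]
    ring
  obtain ⟨b, hb, hbz⟩ : ∃ b ∈ maximalIdeal T, ∀ z : I, t' * φ z = b * algebraMap S T z := by
    clear_value t'
    clear hψ
    induction htm using Submodule.span_induction with
    | mem x hx =>
      obtain ⟨x, hx, rfl⟩ := hx
      refine ⟨φ ⟨x, hx⟩, hJ2 (hφ₂ _), fun z => ?_⟩
      rw [hφsymm ⟨x, hx⟩, mul_comm, hφsymm z ⟨x, hx⟩]
      exact congrArg φ (Subtype.ext (mul_comm _ _))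
    | zero => exact ⟨0, zero_mem _, by simp⟩
    | add x z _ _ hx hz =>
      obtain ⟨t, ht, h⟩ := hx
      obtain ⟨t', ht', h'⟩ := hz
      exact ⟨t + t', add_mem ht ht', fun w => by rw [add_mul, add_mul, h, h']⟩
    | smul c x _ hx =>
      obtain ⟨t, ht, h⟩ := hx
      exact ⟨c * t, Ideal.mul_mem_left _ c ht, fun w => by rw [smul_eq_mul, mul_assoc, h, mul_assoc]⟩
  -- the defect is a small multiple of the product
  have hdef : ∀ z w : I, algebraMap S T (ψ z * ψ w - ψ ((z : S) • w)) =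
      (-2 * b + t' ^ 2 + t') * algebraMap S T ((z : S) * w) := fun z w => by
    rw [map_sub, map_mul, hψ, hψ, hψ, ← hφmul, Submodule.coe_smul, smul_eq_mul, map_mul]
    linear_combination (-(algebraMap S T w)) * hbz z + (-(algebraMap S T z)) * hbz w
  obtain ⟨p, g, hg⟩ := Submodule.fg_iff_exists_fin_generating_family.1 (IsNoetherian.noetherian I)
  have hgI : ∀ i, g i ∈ I := fun i => hg ▸ Submodule.subset_span ⟨i, rfl⟩
  obtain ⟨α, hαm, hα⟩ := exists_smul_eq_of_faithfullyFlat (T := T) (maximalIdeal S)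
    (fun ij : Fin p × Fin p => ψ ⟨g ij.1, hgI _⟩ * ψ ⟨g ij.2, hgI _⟩ - ψ ((g ij.1) • ⟨g ij.2, hgI _⟩))
    (fun ij => g ij.1 * g ij.2) (-2 * b + t' ^ 2 + t')
    (hm.symm ▸ add_mem (add_mem (Ideal.mul_mem_left _ _ hb) (Ideal.pow_mem_of_mem _ (hIm htm) 2 two_pos)) (hIm htm))
    fun ij => hdef ⟨g ij.1, hgI _⟩ ⟨g ij.2, hgI _⟩
  have hspan : ∀ z : I, ∃ c : Fin p → S, z = ∑ i, c i • (⟨g i, hgI i⟩ : I) := fun z => by
    have hz : (z : S) ∈ Submodule.span S (Set.range g) := hg.symm ▸ z.2
    obtain ⟨c, hc⟩ := (Submodule.mem_span_range_iff_exists_fun S).1 hz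
    exact ⟨c, Subtype.ext (by simpa using hc.symm)⟩
  have hα₁ : ∀ (i : Fin p) (w : I), ψ ⟨g i, hgI i⟩ * ψ w - ψ (g i • w) = α * (g i * w) := fun i w => by
    obtain ⟨d, rfl⟩ := hspan w
    simp only [map_sum, map_smul, Submodule.coe_sum, Submodule.coe_smul, smul_eq_mul,
      Finset.mul_sum, ← Finset.sum_sub_distrib]
    refine Finset.sum_congr rfl fun j _ => ?_
    have := hα (i, j)
    simp only [map_smul, smul_eq_mul] at this
    linear_combination d j * this
  have hα' : ∀ z w : I, ψ z * ψ w - ψ ((z : S) • w) = α * ((z : S) * w) := fun z w => by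
    obtain ⟨d, rfl⟩ := hspan z
    simp only [map_sum, map_smul, Submodule.coe_sum, Submodule.coe_smul, smul_eq_mul, Finset.sum_mul,
      Finset.mul_sum, ← Finset.sum_sub_distrib]
    refine Finset.sum_congr rfl fun i _ => ?_
    have := hα₁ i w
    simp only [map_smul, smul_eq_mul] at this
    linear_combination d i * this
  -- correct by henselianity
  obtain ⟨c, hc, hcm⟩ := HenselianLocalRing.is_henselian (Polynomial.X ^ 2 - Polynomial.X - Polynomial.C α)
    (by monicity!) 0 (by simpa using hαm) (by simp)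
  simp only [Polynomial.IsRoot.def, Polynomial.eval_sub, Polynomial.eval_pow, Polynomial.eval_X,
    Polynomial.eval_C] at hc
  rw [sub_zero] at hcm
  obtain ⟨e, he⟩ : IsUnit (1 - 2 * c) := isUnit_one_sub_self_of_mem_nonunits _ (Ideal.mul_mem_left _ _ hcm)
  let ε : I → S := fun z => ↑e⁻¹ * (ψ z - c * z)
  have hε : ∀ z, (1 - 2 * c) * ε z = ψ z - c * z := fun z => by
    simp only [ε, ← he, ← mul_assoc, Units.mul_inv, one_mul]
  have hεlin : ∀ (x : S) (z : I), ε (x • z) = x * ε z := fun x z => by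
    simp only [ε, map_smul, smul_eq_mul, Submodule.coe_smul]; ring
  have hεmul : ∀ z w : I, ε z * ε w = ε ((z : S) • w) := fun z w => by
    refine (e.isUnit.mul_left_cancel ((e.isUnit.mul_left_cancel ?_)))
    have h1 := hε z
    have h2 := hε w
    have h3 := hε ((z : S) • w)
    have h4 := hα' z w
    rw [Submodule.coe_smul, smul_eq_mul] at h3
    rw [map_smul, smul_eq_mul] at h3 h4
    have h5 : ψ w * z = ψ z * w := by
      have h6 := congrArg ψ (show (z : S) • w = (w : S) • z from Subtype.ext (mul_comm _ _))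
      rw [map_smul, map_smul, smul_eq_mul, smul_eq_mul] at h6
      linear_combination h6
    rw [he]
    linear_combination ((1 - 2 * c) * ε w) * h1 + (ψ z - c * z) * h2 - (1 - 2 * c) * h3 + h4 +
      (-((z : S) * w)) * hc + c * h5
  have hεadd : ∀ z w, ε (z + w) = ε z + ε w := fun z w => by
    simp only [ε, map_add, Submodule.coe_add]
    ring
  let ε' : I →ₗ[S] S := { toFun := ε, map_smul' := hεlin, map_add' := hεadd }
  let η : I →ₗ[S] S := I.subtype - ε'
  have hηε : ∀ z w, η z * ε' w = 0 := fun z w => by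
    change ((z : S) - ε z) * ε w = 0
    rw [sub_mul, hεmul, hεlin, sub_self]
  -- both pieces are not nilpotent
  have hcase : ∀ (J J' : Ideal T) (f : I →ₗ[S] S), ¬ J ≤ nilradical T → J ≤ maximalIdeal T → J ⊓ J' = ⊥ →
      (∀ z : I, ∃ v ∈ maximalIdeal T, algebraMap S T ((1 - 2 * c) * f z) -
        algebraMap S T z * (1 - v) ∈ J') → ¬ LinearMap.range f ≤ nilradical S := by
    intro J J' f hJ hJm hJJ hf hle
    obtain ⟨P, hP, hPJ⟩ : ∃ P ∈ minimalPrimes T, ¬ J ≤ P := by
      by_contra! h'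
      refine hJ ?_
      rw [nilradical, Ideal.zero_eq_bot, ← Ideal.sInf_minimalPrimes]
      exact le_sInf h'
    haveI := hP.1.1
    have hJ'P : J' ≤ P := (hP.1.1.mul_le.1 (Ideal.mul_le_inf.trans (hJJ.le.trans bot_le))).resolve_left hPJ
    refine hPJ (hJm.trans ?_)
    rw [← hm]
    refine hP.1.1.le_of_pow_le (n := N) ?_
    rw [← Ideal.map_pow, Ideal.map_le_iff_le_comap]
    intro x hx
    obtain ⟨v, hv, hz⟩ := hf ⟨x, hx⟩
    have h0 : algebraMap S T ((1 - 2 * c) * f ⟨x, hx⟩) ∈ P := by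
      refine hP.1.1.radical.le ?_
      obtain ⟨k, hk⟩ := Ideal.mul_mem_left (nilradical S) (1 - 2 * c) (hle ⟨⟨x, hx⟩, rfl⟩)
      exact ⟨k, by rw [← map_pow, hk, map_zero]; exact zero_mem _⟩
    have h1 := sub_mem h0 (hJ'P hz)
    rw [sub_sub_cancel] at h1
    exact (hP.1.1.mem_or_mem h1).resolve_right fun hu =>
      hP.1.1.ne_top (Ideal.eq_top_of_isUnit_mem _ hu (isUnit_one_sub_self_of_mem_nonunits _ hv))
  have hc' : algebraMap S T c ∈ maximalIdeal T := hm ▸ Ideal.mem_map_of_mem _ hcm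
  have hε2 : ¬ LinearMap.range ε' ≤ nilradical S := hcase J₂ J₁ ε' h2 hJ2 (inf_comm J₁ J₂ ▸ h12)
    fun z => ⟨t' + algebraMap S T c, add_mem (hIm htm) hc', by
      change algebraMap S T ((1 - 2 * c) * ε z) - _ ∈ J₁
      rw [hε, map_sub, map_mul, hψ]
      convert neg_mem (hφ₁ z) using 1
      change φ₀ z - _ - _ - _ = _
      ring⟩
  have hη2 : ¬ LinearMap.range η ≤ nilradical S := hcase J₁ J₂ η h1 hJ1 h12
    fun z => ⟨algebraMap S T c - t', sub_mem hc' (hIm htm), by
      change algebraMap S T ((1 - 2 * c) * ((z : S) - ε z)) - _ ∈ J₂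
      rw [mul_sub, hε, map_sub, map_mul, map_sub, map_sub, map_mul, map_one, map_mul, map_ofNat, hψ]
      convert neg_mem (hφ₂ z) using 1
      change _ - (φ₀ z - _ - _) - _ = _
      ring⟩
  have hsum : I ≤ LinearMap.range η ⊔ LinearMap.range ε' := fun x hx => by
    have : x = η ⟨x, hx⟩ + ε' ⟨x, hx⟩ := (sub_add_cancel x _).symm
    rw [this]
    exact Submodule.add_mem_sup ⟨_, rfl⟩ ⟨_, rfl⟩
  have hprod : LinearMap.range η * LinearMap.range ε' ≤ nilradical S := by
    refine le_trans (le_of_eq ?_) bot_le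
    rw [eq_bot_iff, Ideal.mul_le]
    rintro _ ⟨z, rfl⟩ _ ⟨w, rfl⟩
    exact Ideal.mem_bot.2 (hηε z w)
  exact (h N _ _ hsum hprod).elim hη2 hε2

theorem pconn_iff [HenselianLocalRing S] (hm : (maximalIdeal S).map (algebraMap S T) = maximalIdeal T)
    (hd : ∀ (k : ℕ) (t : T), ∃ d : S, t - algebraMap S T d ∈ (maximalIdeal S ^ k).map (algebraMap S T)) :
    PConn T ↔ PConn S := by
  refine ⟨fun h N J₁ J₂ hN h12 => ?_, pconn_of_pconn hm hd⟩
  have hnil : (nilradical S).map (algebraMap S T) ≤ nilradical T := Ideal.map_le_iff_le_comap.2 fun x ⟨k, hk⟩ =>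
    ⟨k, by rw [← map_pow, hk]; exact map_zero _⟩
  have hback : ∀ J : Ideal S, J.map (algebraMap S T) ≤ nilradical T → J ≤ nilradical S := fun J hJ x hx => by
    obtain ⟨k, hk⟩ := hJ (Ideal.mem_map_of_mem _ hx)
    exact ⟨k, FaithfulSMul.algebraMap_injective S T (by rw [map_pow, hk]; exact (map_zero _).symm)⟩
  refine (h N (J₁.map (algebraMap S T)) (J₂.map (algebraMap S T)) ?_ ?_).imp (hback J₁) (hback J₂)
  · rw [← hm, ← Ideal.map_pow, ← Ideal.map_sup]
    exact Ideal.map_mono hN
  · rw [← Ideal.map_mul]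
    exact (Ideal.map_mono h12).trans hnil

end Groth.Agent.BrnchLib
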